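/-
Suzuki 2-groups: the involutions, the regular cyclic group, equivariant alternating maps.
-/
import Cfsg.Prelude.Def_LieRecognition
import Mathlib

set_option autoImplicit false

namespace Cfsg.Agent.Suzuki2

universe u

variable {P : Type u} [Group P]

/-- The data of a Suzuki 2-group (commutativity is not excluded). -/
structure Datum (P : Type u) [Group P] where
  isp : IsPGroup 2 P
  K : Subgroup (MulAut P)
  comm : ∀ k l : K, k * l = l * k
  two : ∃ x y : P, x ≠ y ∧ x ≠ 1 ∧ x * x = 1 ∧ y ≠ 1 ∧ y * y = 1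
  reg : ∀ x y : P, x ≠ 1 → x * x = 1 → y ≠ 1 → y * y = 1 → ∃! k : K, (k : MulAut P) x = y

theorem exists_datum (h : Cfsg.IsSuzukiTwoGroup P) : ∃ _ : Datum P, Finite P := by
  obtain ⟨hf, hp, -, htwo, K, hK, hreg⟩ := h
  haveI := hK
  exact ⟨⟨hp, K, fun k l => (IsCyclic.commGroup (α := K)).mul_comm k l, htwo, hreg⟩, hf⟩

namespace Datum

variable (D : Datum P) [Finite P]

include D in
theorem involution_central {x : P} (hx : x * x = 1) : x ∈ Subgroup.center P := by
  classical
  by_cases h1 : x = 1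
  · rw [h1]; exact one_mem _
  obtain ⟨u, v, -, hu, hu2, -, -⟩ := D.two
  haveI : Fact (Nat.Prime 2) := ⟨Nat.prime_two⟩
  haveI : Nontrivial P := ⟨⟨u, 1, hu⟩⟩
  haveI := D.isp.center_nontrivial
  obtain ⟨k, hk⟩ := IsPGroup.iff_card.1 (D.isp.to_subgroup (Subgroup.center P))
  have hk0 : k ≠ 0 := fun e => by
    rw [e, pow_zero] at hk
    exact (Finite.one_lt_card (α := Subgroup.center P)).ne' hk
  obtain ⟨z, hz⟩ := exists_prime_orderOf_dvd_card' (G := Subgroup.center P) 2
    (hk ▸ dvd_pow_self 2 hk0)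
  have hz2 : (z : P) * z = 1 := by
    have h := pow_orderOf_eq_one z
    rw [hz, pow_two] at h
    exact congrArg Subtype.val h
  have hz1 : (z : P) ≠ 1 := fun e => by
    rw [← Subgroup.orderOf_coe, e, orderOf_one] at hz
    omega
  obtain ⟨a, ha, -⟩ := D.reg z x hz1 hz2 h1 hx
  rw [← ha, Subgroup.mem_center_iff]
  intro g
  obtain ⟨g, rfl⟩ := (a : MulAut P).surjective g
  rw [← map_mul, ← map_mul, Subgroup.mem_center_iff.1 z.2 g]

/-- The involutions together with one. -/
def V : Subgroup P where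
  carrier := {x | x * x = 1}
  one_mem' := one_mul 1
  mul_mem' {x y} hx hy := by
    show x * y * (x * y) = 1
    have hc := Subgroup.mem_center_iff.1 (D.involution_central hx)
    calc x * y * (x * y) = x * (y * x) * y := by group
      _ = x * (x * y) * y := by rw [hc y]
      _ = (x * x) * (y * y) := by group
      _ = 1 := by rw [show x * x = 1 from hx, show y * y = 1 from hy, one_mul]
  inv_mem' {x} hx := by
    show x⁻¹ * x⁻¹ = 1
    rw [← mul_inv_rev, show x * x = 1 from hx, inv_one]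

theorem mem_V {x : P} : x ∈ D.V ↔ x * x = 1 := Iff.rfl

theorem V_central {x : P} (hx : x ∈ D.V) (y : P) : y * x = x * y :=
  Subgroup.mem_center_iff.1 (D.involution_central hx) y

theorem conj_fix {D : Datum P} {v : P} (hv : v ∈ D.V) (y : P) : y * v * y⁻¹ = v := by
  rw [D.V_central hv y, mul_inv_cancel_right]

theorem exists_ne_one : ∃ v ∈ D.V, v ≠ 1 := by
  obtain ⟨u, -, -, hu, hu2, -, -⟩ := D.two
  exact ⟨u, hu2, hu⟩

theorem map_V (k : MulAut P) {x : P} (hx : x ∈ D.V) : k x ∈ D.V := by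
  rw [D.mem_V, ← map_mul, D.mem_V.1 hx, map_one]

theorem exists_k {x y : P} (hx : x ∈ D.V) (hx1 : x ≠ 1) (hy : y ∈ D.V) (hy1 : y ≠ 1) :
    ∃ k : D.K, (k : MulAut P) x = y :=
  (D.reg x y hx1 hx hy1 hy).exists

theorem k_eq {x : P} (hx : x ∈ D.V) (hx1 : x ≠ 1) {k l : D.K}
    (h : (k : MulAut P) x = (l : MulAut P) x) : k = l :=
  (D.reg x _ hx1 hx (fun e => hx1 (((l : MulAut P)).injective (e.trans (map_one _).symm)))
    (D.map_V _ hx)).unique h rfl

theorem comm_apply (k l : D.K) (x : P) :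
    (k : MulAut P) ((l : MulAut P) x) = (l : MulAut P) ((k : MulAut P) x) :=
  congrArg (fun m : D.K => (m : MulAut P) x) (D.comm k l)

theorem map_ne_one (k : D.K) {x : P} (hx : x ≠ 1) : (k : MulAut P) x ≠ 1 := fun e =>
  hx ((k : MulAut P).injective (e.trans (map_one _).symm))

theorem odd_card_K : Odd (Nat.card D.K) := by
  classical
  obtain ⟨v, hv, hv1⟩ := D.exists_ne_one
  have e : D.K ≃ {x : D.V // x ≠ 1} :=
    Equiv.ofBijective (fun k => ⟨⟨(k : MulAut P) v, D.map_V _ hv⟩,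
      fun h => D.map_ne_one k hv1 (congrArg Subtype.val h)⟩)
      ⟨fun k l h => D.k_eq hv hv1 (congrArg (fun x : {x : D.V // x ≠ 1} => (x.1 : P)) h),
        fun x => by
          obtain ⟨k, hk⟩ := D.exists_k hv hv1 x.1.2 (fun h => x.2 (Subtype.ext h))
          exact ⟨k, Subtype.ext (Subtype.ext hk)⟩⟩
  haveI := Fintype.ofFinite D.V
  haveI : Fact (Nat.Prime 2) := ⟨Nat.prime_two⟩
  obtain ⟨n, hn⟩ := IsPGroup.iff_card.1 (D.isp.to_subgroup D.V)
  rw [Nat.card_congr e, Nat.card_eq_fintype_card, Fintype.card_subtype_compl,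
    Fintype.card_subtype_eq, ← Nat.card_eq_fintype_card, hn]
  have h1 : 1 < Nat.card D.V := by
    haveI : Nontrivial D.V := ⟨⟨⟨v, hv⟩, 1, fun h => hv1 (congrArg Subtype.val h)⟩⟩
    exact Finite.one_lt_card
  rw [hn] at h1
  exact Nat.Even.sub_odd h1.le (Nat.even_pow.2 ⟨even_two, by rintro rfl; simp at h1⟩) odd_one

theorem exists_sqrt (k : D.K) : ∃ r : D.K, r * r = k := by
  obtain ⟨j, hj⟩ := D.odd_card_K
  refine ⟨k ^ (j + 1), ?_⟩
  rw [← pow_add, show j + 1 + (j + 1) = (2 * j + 1) + 1 by ring, pow_succ, ← hj, pow_card_eq_one',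
    one_mul]

/-- An alternating biadditive map of the involutions which commutes with the regular group is
trivial. -/
theorem equivariant_alternating_trivial (c : P → P → P)
    (hc : ∀ u ∈ D.V, ∀ v ∈ D.V, c u v ∈ D.V)
    (hl : ∀ u ∈ D.V, ∀ u' ∈ D.V, ∀ v ∈ D.V, c (u * u') v = c u v * c u' v)
    (hr : ∀ u ∈ D.V, ∀ v ∈ D.V, ∀ v' ∈ D.V, c u (v * v') = c u v * c u v')
    (hK : ∀ (k : D.K), ∀ u ∈ D.V, ∀ v ∈ D.V,
      c ((k : MulAut P) u) ((k : MulAut P) v) = (k : MulAut P) (c u v))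
    (halt : ∀ u ∈ D.V, c u u = 1) : ∀ u ∈ D.V, ∀ v ∈ D.V, c u v = 1 := by
  intro u hu v hv
  have hone : ∀ w ∈ D.V, c w 1 = 1 := fun w hw => by
    have h := hr w hw 1 (one_mem _) 1 (one_mem _)
    rw [one_mul] at h
    exact left_eq_mul.1 h
  have hone' : c 1 v = 1 := by
    have h := hl 1 (one_mem _) 1 (one_mem _) v hv
    rw [one_mul] at h
    exact left_eq_mul.1 h
  rcases eq_or_ne u 1 with rfl | hu1
  · exact hone'
  rcases eq_or_ne v 1 with rfl | hv1
  · exact hone u hu
  have hsymm : ∀ a ∈ D.V, ∀ b ∈ D.V, c a b = c b a := by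
    intro a ha b hb
    have h := halt _ (mul_mem ha hb)
    rw [hl a ha b hb _ (mul_mem ha hb), hr a ha a ha b hb, hr b hb a ha b hb, halt a ha, halt b hb,
      one_mul, mul_one] at h
    rw [eq_inv_of_mul_eq_one_left h, inv_eq_of_mul_eq_one_right (hc b hb a ha)]
  set g : D.K → P := fun k => c u ((k : MulAut P) u) with hg
  have hmem : ∀ k : D.K, (k : MulAut P) u ∈ D.V := fun k => D.map_V _ hu
  have hginv : ∀ k : D.K, g k⁻¹ = ((k⁻¹ : D.K) : MulAut P) (g k) := by
    intro k
    have h := hK k⁻¹ _ (hmem k) u hu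
    have e : ((k⁻¹ : D.K) : MulAut P) ((k : MulAut P) u) = u := by
      show (((k⁻¹ * k : D.K)) : MulAut P) u = u
      rw [inv_mul_cancel]; rfl
    rw [e, hsymm _ (hmem k) u hu] at h
    exact h
  have hsq : ∀ k : D.K, g (k * k) = 1 := by
    intro k
    rcases eq_or_ne k 1 with rfl | hk1
    · rw [mul_one]; exact halt u hu
    have hne : (k : MulAut P) u * u ≠ 1 := by
      intro e
      apply hk1
      refine D.k_eq hu hu1 ?_
      rw [eq_inv_of_mul_eq_one_left e, inv_eq_of_mul_eq_one_right hu]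
      rfl
    obtain ⟨l, hl'⟩ := D.exists_k hu hu1 (mul_mem (hmem k) hu) hne
    have hlw : ∀ w ∈ D.V, (l : MulAut P) w = (k : MulAut P) w * w := by
      intro w hw
      rcases eq_or_ne w 1 with rfl | hw1
      · simp
      obtain ⟨m, rfl⟩ := D.exists_k hu hu1 hw hw1
      rw [D.comm_apply l m, hl', map_mul, D.comm_apply m k]
    have hgl : g l = g k := by
      show c u ((l : MulAut P) u) = c u ((k : MulAut P) u)
      rw [hl', hr u hu _ (hmem k) u hu, halt u hu, mul_one]
    -- inverses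
    have hsum : ∀ w ∈ D.V, ((k⁻¹ : D.K) : MulAut P) w * ((l⁻¹ : D.K) : MulAut P) w =
        (((k * l)⁻¹ : D.K) : MulAut P) w := by
      intro w hw
      apply ((k * l : D.K) : MulAut P).injective
      show _ = (((k * l) * (k * l)⁻¹ : D.K) : MulAut P) w
      rw [mul_inv_cancel, map_mul]
      show (((k * l) * k⁻¹ : D.K) : MulAut P) w * (((k * l) * l⁻¹ : D.K) : MulAut P) w = w
      rw [mul_inv_cancel_right, D.comm k l, mul_inv_cancel_right, hlw w hw]
      calc (k : MulAut P) w * w * (k : MulAut P) w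
          = (k : MulAut P) w * ((k : MulAut P) w * w) := by
            rw [mul_assoc, D.V_central (D.map_V _ hw) w]
        _ = w := by rw [← mul_assoc, D.map_V _ hw, one_mul]
    have hgV : g k ∈ D.V := hc u hu _ (hmem k)
    have h1 : g ((k * l)⁻¹) = g k⁻¹ * g l⁻¹ := by
      show c u _ = c u _ * c u _
      rw [← hsum u hu, hr u hu _ (hmem k⁻¹) _ (hmem l⁻¹)]
    rw [hginv, hginv, hginv, hgl, hsum _ hgV] at h1
    have hkl : g (k * l) = g k := (((k * l)⁻¹ : D.K) : MulAut P).injective h1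
    have h2 : ((k * l : D.K) : MulAut P) u = ((k * k : D.K) : MulAut P) u * (k : MulAut P) u := by
      show (k : MulAut P) ((l : MulAut P) u) = (k : MulAut P) ((k : MulAut P) u) * (k : MulAut P) u
      rw [hl', map_mul]
    have h3 : g (k * l) = g (k * k) * g k := by
      show c u _ = c u _ * c u _
      rw [h2, hr u hu _ (hmem (k * k)) _ (hmem k)]
    rw [hkl] at h3
    exact right_eq_mul.1 h3
  obtain ⟨k, hk⟩ := D.exists_k hu hu1 hv hv1
  obtain ⟨r, rfl⟩ := D.exists_sqrt k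
  rw [← hk]
  exact hsq r

end Datum

end Cfsg.Agent.Suzuki2
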