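/-
Coordinates in a finite field: an elementary abelian 2-group with a commutative regular group of
automorphisms.
-/
import Cfsg.Agent.Lib.Suzuki2.Basic

set_option autoImplicit false

namespace Cfsg.Agent.Suzuki2

universe u v

/-- A commutative group regular on the nonzero elements. -/
theorem exists_field {U : Type u} [AddCommGroup U] [Finite U] {K : Type v} [Group K] (act : K → U → U)
    (hone : ∀ u, act 1 u = u) (hmul : ∀ k l u, act (k * l) u = act k (act l u))
    (hadd : ∀ k u w, act k (u + w) = act k u + act k w) (htwo : ∀ u : U, u + u = 0)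
    (hcomm : ∀ k l : K, k * l = l * k)
    (hreg : ∀ u w : U, u ≠ 0 → w ≠ 0 → ∃! k, act k u = w) (hne : ∃ u : U, u ≠ 0) :
    ∃ (F : Type u) (_ : Field F) (_ : Fintype F) (_ : CharP F 2) (e : U ≃+ F) (g : K ≃* Fˣ),
      ∀ k u, e (act k u) = (g k : F) * e u := by
  classical
  obtain ⟨u0, hu0⟩ := hne
  let a : K → AddMonoid.End U := fun k => AddMonoidHom.mk' (act k) (hadd k)
  let S : Subring (AddMonoid.End U) := Subring.centralizer (Set.range a)
  have hcommS : ∀ f : S, ∀ k u, f.1 (act k u) = act k (f.1 u) := fun f k u =>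
    (DFunLike.congr_fun (Subring.mem_centralizer_iff.1 f.2 (a k) ⟨k, rfl⟩) u).symm
  have hzero : ∀ k, act k 0 = 0 := fun k => map_zero (a k)
  have haS : ∀ k, a k ∈ S := fun k => Subring.mem_centralizer_iff.2 (by
    rintro _ ⟨l, rfl⟩
    refine AddMonoidHom.ext fun u => ?_
    show act l (act k u) = act k (act l u)
    rw [← hmul, ← hmul, hcomm])
  have hext : ∀ f h : S, f.1 u0 = h.1 u0 → f = h := by
    intro f h e
    refine Subtype.ext (AddMonoidHom.ext fun u => ?_)
    rcases eq_or_ne u 0 with rfl | hu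
    · exact (map_zero f.1).trans (map_zero h.1).symm
    · obtain ⟨k, rfl⟩ := (hreg u0 u hu0 hu).exists
      exact (hcommS f k u0).trans ((congrArg (act k) e).trans (hcommS h k u0).symm)
  have hsurj : ∀ u, ∃ f : S, f.1 u0 = u := fun u => by
    rcases eq_or_ne u 0 with rfl | hu
    · exact ⟨0, rfl⟩
    · obtain ⟨k, hk⟩ := (hreg u0 u hu0 hu).exists
      exact ⟨⟨a k, haS k⟩, hk⟩
  have hunit : ∀ f : S, f ≠ 0 → ∃ k, f = ⟨a k, haS k⟩ := fun f hf => by
    have h0 : f.1 u0 ≠ 0 := fun e => hf (hext f 0 e)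
    obtain ⟨k, hk⟩ := (hreg u0 _ hu0 h0).exists
    exact ⟨k, hext _ _ hk.symm⟩
  have hfield : IsField S := by
    refine ⟨⟨0, ⟨a 1, haS 1⟩, fun e => hu0 ?_⟩, fun f h => ?_, fun {f} hf => ?_⟩
    · have e' : act 1 u0 = 0 := congrArg (fun f : S => f.1 u0) e.symm
      rwa [hone] at e'
    · refine hext _ _ ?_
      show f.1 (h.1 u0) = h.1 (f.1 u0)
      rcases eq_or_ne f 0 with rfl | hf
      · exact (map_zero h.1).symm
      · obtain ⟨k, rfl⟩ := hunit f hf
        exact (hcommS h k u0).symm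
    · obtain ⟨k, rfl⟩ := hunit f hf
      refine ⟨⟨a k⁻¹, haS k⁻¹⟩, hext _ _ ?_⟩
      show act k (act k⁻¹ u0) = u0
      rw [← hmul, mul_inv_cancel, hone]
  letI : Field S := hfield.toField
  haveI : Finite S := Finite.of_injective (fun f : S => f.1 u0) fun f h e => hext f h e
  letI : Fintype S := Fintype.ofFinite S
  haveI : CharP S 2 := CharTwo.of_one_ne_zero_of_two_eq_zero one_ne_zero (by
    refine hext _ _ ?_
    rw [← one_add_one_eq_two]
    exact htwo u0)
  let ev : S ≃+ U := AddEquiv.ofBijective (AddMonoidHom.mk' (fun f : S => f.1 u0) fun _ _ => rfl)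
    ⟨fun f h e => hext f h e, hsurj⟩
  let gh : K →* Sˣ := MonoidHom.toHomUnits
    { toFun := fun k => (⟨a k, haS k⟩ : S)
      map_one' := Subtype.ext (AddMonoidHom.ext hone)
      map_mul' := fun k l => Subtype.ext (AddMonoidHom.ext fun u => hmul k l u) }
  have hbij : Function.Bijective gh := by
    refine ⟨fun k l e => ?_, fun f => ?_⟩
    · have e' : act k u0 = act l u0 := congrArg (fun f : Sˣ => (f : S).1 u0) e
      exact (hreg u0 (act l u0) hu0 (fun h0 => hu0 (by
        have := congrArg (act l⁻¹) h0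
        rwa [← hmul, inv_mul_cancel, hone, hzero] at this))).unique e' rfl
    · obtain ⟨k, hk⟩ := hunit (f : S) f.ne_zero
      exact ⟨k, Units.ext hk.symm⟩
  refine ⟨S, inferInstance, inferInstance, inferInstance, ev.symm, MulEquiv.ofBijective gh hbij,
    fun k u => ev.injective ?_⟩
  rw [ev.apply_symm_apply]
  show act k u = act k ((ev.symm u).1 u0)
  exact congrArg (act k) (ev.apply_symm_apply u).symm

/-- Coordinates for the involutions. -/
structure Coord {P : Type u} [Group P] [Finite P] (D : Datum P) (F : Type u) [Field F] where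
  co : P → F
  el : F → P
  μ : D.K → Fˣ
  el_mem : ∀ x, el x ∈ D.V
  co_el : ∀ x, co (el x) = x
  el_co : ∀ v ∈ D.V, el (co v) = v
  co_mul : ∀ v ∈ D.V, ∀ w ∈ D.V, co (v * w) = co v + co w
  co_k : ∀ (k : D.K), ∀ v ∈ D.V, co ((k : MulAut P) v) = (μ k : F) * co v
  μ_mul : ∀ k l, μ (k * l) = μ k * μ l
  μ_bij : Function.Bijective μ

theorem Coord.co_one {P : Type u} [Group P] [Finite P] {D : Datum P} {F : Type u} [Field F]
    (C : Coord D F) : C.co 1 = 0 := by
  have h := C.co_mul 1 (one_mem _) 1 (one_mem _)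
  rw [one_mul] at h
  exact left_eq_add.1 h

theorem Coord.co_inj {P : Type u} [Group P] [Finite P] {D : Datum P} {F : Type u} [Field F]
    (C : Coord D F) {v w : P} (hv : v ∈ D.V) (hw : w ∈ D.V) (h : C.co v = C.co w) : v = w := by
  rw [← C.el_co v hv, h, C.el_co w hw]

theorem Coord.co_eq_zero {P : Type u} [Group P] [Finite P] {D : Datum P} {F : Type u} [Field F]
    (C : Coord D F) {v : P} (hv : v ∈ D.V) (h : C.co v = 0) : v = 1 :=
  C.co_inj hv (one_mem _) (h.trans C.co_one.symm)

theorem exists_coord {P : Type u} [Group P] [Finite P] (D : Datum P) :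
    ∃ (F : Type u) (_ : Field F) (_ : Fintype F) (_ : CharP F 2),
      Nonempty (Coord D F) ∧ Nat.card F = Nat.card D.V := by
  classical
  letI : CommGroup D.V :=
    { (inferInstance : Group D.V) with
      mul_comm := fun a b => Subtype.ext (D.V_central b.2 a) }
  let act : D.K → Additive D.V → Additive D.V := fun k u =>
    Additive.ofMul ⟨(k : MulAut P) u.toMul.1, D.map_V _ u.toMul.2⟩
  obtain ⟨v, hv, hv1⟩ := D.exists_ne_one
  have hne1 : ∀ u : Additive D.V, u ≠ 0 → u.toMul.1 ≠ 1 := fun u hu e =>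
    hu (Additive.toMul.injective (Subtype.ext e))
  obtain ⟨F, i1, i2, i3, e, g, hg⟩ := exists_field act (fun u => rfl)
    (fun k l u => rfl)
    (fun k u w => Additive.toMul.injective (Subtype.ext (map_mul (k : MulAut P) u.toMul.1 w.toMul.1)))
    (fun u => Additive.toMul.injective (Subtype.ext u.toMul.2)) D.comm
    (fun u w hu hw => by
      obtain ⟨k, hk, hk'⟩ := D.reg u.toMul.1 w.toMul.1 (hne1 u hu) u.toMul.2 (hne1 w hw) w.toMul.2
      exact ⟨k, Additive.toMul.injective (Subtype.ext hk), fun l hl =>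
        hk' l (congrArg (fun z : Additive D.V => z.toMul.1) hl)⟩)
    ⟨Additive.ofMul ⟨v, hv⟩, fun e => hv1 (congrArg (fun z : Additive D.V => z.toMul.1) e)⟩
  refine ⟨F, i1, i2, i3, ⟨⟨fun x => if h : x ∈ D.V then e (Additive.ofMul ⟨x, h⟩) else 0,
    fun x => (e.symm x).toMul.1, g, fun x => (e.symm x).toMul.2, fun x => ?_, fun v hv => ?_,
    fun v hv w hw => ?_, fun k v hv => ?_, map_mul g, g.bijective⟩⟩, Nat.card_congr e.symm.toEquiv⟩
  · rw [dif_pos (e.symm x).toMul.2]
    exact e.apply_symm_apply x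
  · rw [dif_pos hv, e.symm_apply_apply]; rfl
  · rw [dif_pos hv, dif_pos hw, dif_pos (mul_mem hv hw), ← map_add]; rfl
  · rw [dif_pos hv, dif_pos (D.map_V _ hv)]
    exact hg k (Additive.ofMul ⟨v, hv⟩)

end Cfsg.Agent.Suzuki2
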