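/-
Freeness of the regular group on invariant sections, and the quadratic bound.
-/
import Cfsg.Agent.Lib.Suzuki2.Coord
import Cfsg.Agent.Lib.AnisoQuad.Basic

set_option autoImplicit false

namespace Cfsg.Agent.Suzuki2

universe u

/-- An anisotropic system of `n` quadratic forms has at most `2n` variables. -/
theorem card_le_of_aniso {Q : Type u} [CommGroup Q] [Finite Q] (hsq : ∀ x : Q, x * x = 1) {n : ℕ}
    (q : Q → Fin n → ZMod 2) (b : Q → Q → Fin n → ZMod 2)
    (hq : ∀ x y, q (x * y) = q x + q y + b x y) (hb : ∀ x y z, b (x * y) z = b x z + b y z)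
    (haniso : ∀ x, q x = 0 → x = 1) : Nat.card Q ≤ 2 ^ (2 * n) := by
  classical
  letI : Fintype Q := Fintype.ofFinite Q
  by_contra h
  rw [Nat.card_eq_fintype_card, not_le] at h
  have hdeg : ∀ i, AnisoQuad.Deg 2 (fun x : Q => 1 + q x i) := by
    intro i a c e z
    simp only [hq, hb, Pi.add_apply]
    ring_nf
    simp [show (4 : ZMod 2) = 0 from rfl, show (2 : ZMod 2) = 0 from rfl]
  have hprod : ∀ s : Finset (Fin n),
      AnisoQuad.Deg (2 * s.card) (fun x : Q => ∏ i ∈ s, (1 + q x i)) := by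
    intro s
    induction s using Finset.induction with
    | empty => simpa using AnisoQuad.deg_const (Q := Q) 1 0
    | insert i s hi ih =>
      simp only [Finset.prod_insert hi]
      exact AnisoQuad.deg_mul _ 2 (2 * s.card)
        (by rw [Finset.card_insert_of_notMem hi]; ring) _ _ (hdeg i) ih
  have hsum := AnisoQuad.sum_eq_zero (2 * n) Q _ hsq h (by simpa using hprod Finset.univ)
  have hq1 : q 1 = 0 := by
    have hb1 : b 1 1 = 0 := by
      have h' := hb 1 1 1
      rw [one_mul] at h'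
      exact left_eq_add.1 h'
    have h' := hq 1 1
    rw [one_mul, hb1, add_zero] at h'
    exact left_eq_add.1 h'
  rw [Finset.sum_eq_single (1 : Q)] at hsum
  · simp [hq1] at hsum
  · intro x _ hx
    by_contra hne
    apply hx (haniso x (funext fun i => ?_))
    have key : ∀ w : ZMod 2, 1 + w ≠ 0 → w = 0 := by decide
    exact key _ (Finset.prod_ne_zero_iff.1 hne i (Finset.mem_univ i))
  · simp

namespace Datum

variable {P : Type u} [Group P] [Finite P] (D : Datum P)

theorem free {k : D.K} {x : P} (hx : x ≠ 1) (h : (k : MulAut P) x = x) : k = 1 := by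
  classical
  obtain ⟨n, hn⟩ := D.isp x
  have hex : ∃ m, x ^ 2 ^ m = 1 := ⟨n, hn⟩
  obtain ⟨m, hm⟩ : ∃ m, Nat.find hex = m + 1 := ⟨Nat.find hex - 1, by
    have : Nat.find hex ≠ 0 := fun h0 => hx (by simpa [h0] using Nat.find_spec hex)
    omega⟩
  have h1 : x ^ 2 ^ m ∈ D.V := by
    rw [D.mem_V, ← pow_add, ← two_mul, ← pow_succ', ← hm]
    exact Nat.find_spec hex
  refine D.k_eq h1 (Nat.find_min hex (by omega)) (l := 1) ?_
  rw [map_pow, h]
  rfl

theorem free_section {N : Subgroup P} (hN : ∀ k : D.K, ∀ a ∈ N, (k : MulAut P) a ∈ N) {k : D.K}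
    (hk : k ≠ 1) {x : P} (h : x⁻¹ * (k : MulAut P) x ∈ N) : x ∈ N := by
  classical
  obtain ⟨r, hr, hrk⟩ := Nat.exists_prime_and_dvd (n := orderOf k) (fun e => hk (orderOf_eq_one_iff.1 e))
  haveI := Fact.mk hr
  set l := k ^ (orderOf k / r) with hl
  have hlo : orderOf l = r := orderOf_pow_orderOf_div (orderOf_pos k).ne' hrk
  have hr2 : r ≠ 2 := by
    rintro rfl
    exact Nat.not_even_iff_odd.2 D.odd_card_K (even_iff_two_dvd.2 (hrk.trans (orderOf_dvd_natCard k)))
  have hpowN : ∀ i : ℕ, x⁻¹ * ((k ^ i : D.K) : MulAut P) x ∈ N := by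
    intro i
    induction i with
    | zero => rw [pow_zero]; show x⁻¹ * x ∈ N; rw [inv_mul_cancel]; exact one_mem _
    | succ i ih =>
      have e : ((k ^ (i + 1) : D.K) : MulAut P) x = (k : MulAut P) (((k ^ i : D.K) : MulAut P) x) := by
        rw [pow_succ']; rfl
      have := N.mul_mem h (hN k _ ih)
      rw [map_mul, map_inv] at this
      rw [e]
      simpa [mul_assoc] using this
  let Ω := {z : P // x⁻¹ * z ∈ N}
  let σ : Equiv.Perm Ω := Equiv.Perm.subtypePerm (l : MulAut P).toEquiv (fun z => by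
    show x⁻¹ * (l : MulAut P) z ∈ N ↔ _
    have hl' : x⁻¹ * (l : MulAut P) x ∈ N := hpowN _
    constructor
    · intro hz
      have h2 := N.mul_mem (N.inv_mem hl') hz
      rw [mul_inv_rev, inv_inv, mul_assoc, mul_inv_cancel_left, ← map_inv, ← map_mul] at h2
      have h3 := hN l⁻¹ _ h2
      simpa using h3
    · intro hz
      have h2 := N.mul_mem hl' (hN l _ hz)
      rw [map_mul, map_inv, mul_assoc, mul_inv_cancel_left] at h2
      exact h2)
  haveI : Fintype Ω := Fintype.ofFinite Ω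
  have hσpow : ∀ (i : ℕ) (z : Ω), ((σ ^ i) z : P) = ((l ^ i : D.K) : MulAut P) z := by
    intro i
    induction i with
    | zero => intro z; rfl
    | succ i ih =>
      intro z
      rw [pow_succ', pow_succ', Equiv.Perm.mul_apply]
      show (l : MulAut P) ((σ ^ i) z : P) = _
      rw [ih]; rfl
  have hσ : σ ^ r ^ 1 = 1 := by
    refine Equiv.Perm.ext fun z => Subtype.ext ?_
    rw [pow_one, hσpow, ← hlo, pow_orderOf_eq_one]; rfl
  have hmod := Equiv.Perm.card_compl_support_modEq (p := r) (n := 1) hσ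
  have hcard : Fintype.card Ω = Nat.card N := by
    rw [← Nat.card_eq_fintype_card]
    exact Nat.card_congr
      { toFun := fun z => ⟨x⁻¹ * z.1, z.2⟩
        invFun := fun a => ⟨x * a.1, by simpa using a.2⟩
        left_inv := fun z => Subtype.ext (by simp)
        right_inv := fun a => Subtype.ext (by simp) }
  haveI : Fact (Nat.Prime 2) := ⟨Nat.prime_two⟩
  obtain ⟨j, hj⟩ := IsPGroup.iff_card.1 (D.isp.to_subgroup N)
  obtain ⟨z, hz⟩ : ∃ z : Ω, σ z = z := by
    by_contra! hall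
    have h0 : σ.supportᶜ.card = 0 := by
      rw [Finset.card_eq_zero, Finset.compl_eq_empty_iff]
      exact Finset.eq_univ_iff_forall.2 fun z => Equiv.Perm.mem_support.2 (hall z)
    rw [h0, hcard, hj, Nat.ModEq, Nat.zero_mod] at hmod
    exact hr2 ((Nat.prime_dvd_prime_iff_eq hr Nat.prime_two).1
      (hr.dvd_of_dvd_pow (Nat.dvd_of_mod_eq_zero hmod.symm)))
  by_contra hxN
  have hl1 : l ≠ 1 := fun e => hr.ne_one (by rw [← hlo, e, orderOf_one])
  by_cases hz1 : (z : P) = 1
  · have := z.2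
    rw [hz1, mul_one] at this
    exact hxN (N.inv_mem_iff.1 this)
  · exact hl1 (D.free hz1 (congrArg Subtype.val hz))

/-- An invariant overgroup is at least `q` times as large. -/
theorem card_jump {N M : Subgroup P} (hN : ∀ k : D.K, ∀ a ∈ N, (k : MulAut P) a ∈ N)
    (hM : ∀ k : D.K, ∀ a ∈ M, (k : MulAut P) a ∈ M) (hNM : N ≤ M) {x : P} (hx : x ∈ M) (hxN : x ∉ N) :
    (Nat.card D.K + 1) * Nat.card N ≤ Nat.card M := by
  classical
  let f : Option D.K × N → M := fun p => match p with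
    | (none, a) => ⟨a.1, hNM a.2⟩
    | (some k, a) => ⟨(k : MulAut P) x * a.1, M.mul_mem (hM k x hx) (hNM a.2)⟩
  have hnot : ∀ k : D.K, (k : MulAut P) x ∉ N := fun k h => hxN (by
    have := hN k⁻¹ _ h
    simpa using this)
  have hf : Function.Injective f := by
    rintro ⟨_ | k, a⟩ ⟨_ | l, b⟩ e
    · exact Prod.ext rfl (Subtype.ext (congrArg (fun z : M => z.1) e))
    · exfalso
      have e' : a.1 = (l : MulAut P) x * b.1 := congrArg (fun z : M => z.1) e
      exact hnot l (by rw [eq_mul_inv_of_mul_eq e'.symm]; exact N.mul_mem a.2 (N.inv_mem b.2))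
    · exfalso
      have e' : (k : MulAut P) x * a.1 = b.1 := congrArg (fun z : M => z.1) e
      exact hnot k (by rw [eq_mul_inv_of_mul_eq e']; exact N.mul_mem b.2 (N.inv_mem a.2))
    · have e' : (k : MulAut P) x * a.1 = (l : MulAut P) x * b.1 := congrArg (fun z : M => z.1) e
      have hkl : k = l := by
        by_contra hne
        refine hnot l (D.free_section hN (k := k * l⁻¹) (fun h => hne (mul_inv_eq_one.1 h))
          (x := (l : MulAut P) x) ?_)
        have e2 : ((k * l⁻¹ : D.K) : MulAut P) ((l : MulAut P) x) = (k : MulAut P) x := by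
          show (k : MulAut P) (((l⁻¹ * l : D.K) : MulAut P) x) = _
          rw [inv_mul_cancel]; rfl
        rw [e2, eq_mul_inv_of_mul_eq e', mul_assoc, inv_mul_cancel_left]
        exact N.mul_mem b.2 (N.inv_mem a.2)
      subst hkl
      exact Prod.ext rfl (Subtype.ext (mul_left_cancel e'))
  have := Nat.card_le_card_of_injective f hf
  rwa [Nat.card_prod, Finite.card_option] at this

theorem card_K_add_one : Nat.card D.K + 1 = Nat.card D.V := by
  obtain ⟨F, _, _, _, ⟨C⟩, hF⟩ := exists_coord D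
  rw [Nat.card_congr (Equiv.ofBijective _ C.μ_bij), Nat.card_units, ← hF]
  have := Nat.card_pos (α := F)
  omega

theorem V_stable (k : D.K) (a : P) (ha : a ∈ D.V) : (k : MulAut P) a ∈ D.V := D.map_V _ ha

theorem mul_comm_of_sq {x y : P} (hx : x * x ∈ D.V) (hy : y * y ∈ D.V) (hxy : x * y * (x * y) ∈ D.V) :
    x * y * x⁻¹ * y⁻¹ ∈ D.V := by
  have e : x * y * x⁻¹ * y⁻¹ = x * y * (x * y) * ((y⁻¹ * (x * x)⁻¹ * y) * (y * y)⁻¹) := by group
  rw [e]
  refine D.V.mul_mem hxy (D.V.mul_mem ?_ (D.V.inv_mem hy))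
  rw [mul_assoc, ← D.V_central (D.V.inv_mem hx) y, inv_mul_cancel_left]
  exact D.V.inv_mem hx

/-- A subgroup with all squares among the involutions has order at most `q ^ 3`. -/
theorem card_le_cube {M : Subgroup P} (hVM : D.V ≤ M) (hM : ∀ x ∈ M, x * x ∈ D.V) :
    Nat.card M ≤ Nat.card D.V ^ 3 := by
  classical
  haveI : Fact (Nat.Prime 2) := ⟨Nat.prime_two⟩
  set N := D.V.subgroupOf M with hN
  haveI : N.Normal := ⟨fun a ha g => by
    rw [Subgroup.mem_subgroupOf] at ha ⊢
    show (g : P) * a * (g : P)⁻¹ ∈ D.V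
    rw [conj_fix ha]; exact ha⟩
  letI : CommGroup (M ⧸ N) :=
    { (inferInstance : Group (M ⧸ N)) with
      mul_comm := fun a b => by
        obtain ⟨x, rfl⟩ := QuotientGroup.mk_surjective a
        obtain ⟨y, rfl⟩ := QuotientGroup.mk_surjective b
        rw [← QuotientGroup.mk_mul, ← QuotientGroup.mk_mul, QuotientGroup.eq, Subgroup.mem_subgroupOf]
        show ((x : P) * y)⁻¹ * (y * x) ∈ D.V
        have h := D.mul_comm_of_sq (hM _ (M.inv_mem y.2)) (hM _ (M.inv_mem x.2))
          (hM _ (M.mul_mem (M.inv_mem y.2) (M.inv_mem x.2)))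
        rw [show ((x : P) * y)⁻¹ * (y * x) =
          (y : P)⁻¹ * (x : P)⁻¹ * (y : P)⁻¹⁻¹ * (x : P)⁻¹⁻¹ by group]
        exact h }
  obtain ⟨F, _, _, _, ⟨C⟩, hF⟩ := exists_coord D
  letI : Algebra (ZMod 2) F := ZMod.algebra F 2
  set n := Module.finrank (ZMod 2) F with hn
  have hq : Nat.card D.V = 2 ^ n := by
    rw [← hF, Module.natCard_eq_pow_finrank (K := ZMod 2), Nat.card_zmod]
  let ψ : F ≃ₗ[ZMod 2] (Fin n → ZMod 2) := (Module.finBasis (ZMod 2) F).equivFun
  let qP : P → Fin n → ZMod 2 := fun x => ψ (C.co (x * x))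
  let bP : P → P → Fin n → ZMod 2 := fun x y => ψ (C.co (y * x * y⁻¹ * x⁻¹))
  have hcomV : ∀ x ∈ M, ∀ y ∈ M, x * y * x⁻¹ * y⁻¹ ∈ D.V := fun x hx y hy =>
    D.mul_comm_of_sq (hM x hx) (hM y hy) (hM _ (M.mul_mem hx hy))
  have hqm : ∀ x ∈ M, ∀ y ∈ M, qP (x * y) = qP x + qP y + bP x y := by
    intro x hx y hy
    have hc := hcomV y hy x hx
    have e : x * y * (x * y) = (x * x) * (y * y) * (y * x * y⁻¹ * x⁻¹) := by
      calc x * y * (x * y) = x * (y * x * y⁻¹ * x⁻¹) * (x * (y * y)) := by group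
        _ = (y * x * y⁻¹ * x⁻¹) * (x * x * (y * y)) := by rw [D.V_central hc x]; group
        _ = _ := (D.V_central hc _).symm
    show ψ (C.co _) = ψ (C.co _) + ψ (C.co _) + ψ (C.co _)
    rw [e, C.co_mul _ (mul_mem (hM x hx) (hM y hy)) _ hc, C.co_mul _ (hM x hx) _ (hM y hy), map_add,
      map_add]
  have hbm : ∀ x ∈ M, ∀ y ∈ M, ∀ z ∈ M, bP (x * y) z = bP x z + bP y z := by
    intro x hx y hy z hz
    have h1 := hcomV z hz x hx
    have h2 := hcomV z hz y hy
    have e : z * (x * y) * z⁻¹ * (x * y)⁻¹ =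
        (z * x * z⁻¹ * x⁻¹) * (z * y * z⁻¹ * y⁻¹) := by
      calc z * (x * y) * z⁻¹ * (x * y)⁻¹
          = z * x * z⁻¹ * ((z * y * z⁻¹ * y⁻¹) * x⁻¹) := by group
        _ = _ := by rw [← D.V_central h2 x⁻¹]; group
    show ψ (C.co _) = ψ (C.co _) + ψ (C.co _)
    rw [e, C.co_mul _ h1 _ h2, map_add]
  have hq1 : ∀ v : M, v ∈ N → ∀ x : M, qP ((x : P) * v) = qP x := by
    intro v hv x
    have hv' : (v : P) ∈ D.V := Subgroup.mem_subgroupOf.1 hv
    have e : (x : P) * v * (x * v) = x * x := by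
      calc (x : P) * v * (x * v) = x * ((v : P) * x) * v := by group
        _ = x * x * ((v : P) * v) := by rw [← D.V_central hv' x]; group
        _ = x * x := by rw [D.mem_V.1 hv', mul_one]
    show ψ (C.co _) = ψ (C.co _)
    rw [e]
  let q : M ⧸ N → Fin n → ZMod 2 := fun a => qP (a.out : M)
  have hqmk : ∀ x : M, q (x : M ⧸ N) = qP x := by
    intro x
    obtain ⟨v, hv⟩ := QuotientGroup.mk_out_eq_mul N x
    show qP _ = _
    rw [hv]
    exact hq1 v v.2 x
  let b : M ⧸ N → M ⧸ N → Fin n → ZMod 2 := fun a c => q (a * c) - q a - q c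
  have hbmk : ∀ x y : M, b (x : M ⧸ N) y = bP x y := by
    intro x y
    show q ((x : M ⧸ N) * y) - q (x : M ⧸ N) - q (y : M ⧸ N) = _
    rw [← QuotientGroup.mk_mul, hqmk, hqmk, hqmk, Subgroup.coe_mul, hqm _ x.2 _ y.2]
    abel
  have hbound := card_le_of_aniso (Q := M ⧸ N) (fun a => by
      obtain ⟨x, rfl⟩ := QuotientGroup.mk_surjective a
      rw [← QuotientGroup.mk_mul, QuotientGroup.eq_one_iff, Subgroup.mem_subgroupOf]
      exact hM x x.2) q b
    (fun a c => by show _ = _ + (q (a * c) - q a - q c); abel)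
    (fun a c d => by
      obtain ⟨x, rfl⟩ := QuotientGroup.mk_surjective a
      obtain ⟨y, rfl⟩ := QuotientGroup.mk_surjective c
      obtain ⟨z, rfl⟩ := QuotientGroup.mk_surjective d
      rw [← QuotientGroup.mk_mul, hbmk, hbmk, hbmk, Subgroup.coe_mul]
      exact hbm _ x.2 _ y.2 _ z.2)
    (fun a ha => by
      obtain ⟨x, rfl⟩ := QuotientGroup.mk_surjective a
      rw [hqmk] at ha
      rw [QuotientGroup.eq_one_iff, Subgroup.mem_subgroupOf, D.mem_V]
      refine C.co_eq_zero (hM x x.2) ?_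
      exact (LinearEquiv.map_eq_zero_iff ψ).1 ha)
  rw [Subgroup.card_eq_card_quotient_mul_card_subgroup N,
    show Nat.card N = Nat.card D.V from Nat.card_congr (Subgroup.subgroupOfEquivOfLe hVM).toEquiv,
    pow_succ]
  refine Nat.mul_le_mul_right _ (hbound.trans (le_of_eq ?_))
  rw [hq, ← pow_mul, mul_comm]

end Datum

end Cfsg.Agent.Suzuki2
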