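/-
Abelian invariant subgroups of a Suzuki 2-group are homocyclic.
-/
import Cfsg.Agent.Lib.Suzuki2.Basic

set_option autoImplicit false

namespace Cfsg.Agent.Suzuki2.Datum

universe u

variable {P : Type u} [Group P] [Finite P] (D : Datum P)

/-- An abelian normal invariant subgroup containing the involutions. -/
structure Inv (A : Subgroup P) : Prop where
  comm : ∀ a ∈ A, ∀ b ∈ A, a * b = b * a
  stable : ∀ k : D.K, ∀ a ∈ A, (k : MulAut P) a ∈ A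
  normal : A.Normal
  vle : D.V ≤ A

/-- Exponent `2 ^ f`, every involution being a `2 ^ (f-1)`-st power. -/
structure Homo (A : Subgroup P) (f : ℕ) : Prop where
  pos : 1 ≤ f
  exp : ∀ a ∈ A, a ^ 2 ^ f = 1
  root : ∀ v ∈ D.V, ∃ a ∈ A, a ^ 2 ^ (f - 1) = v

variable {D} {A : Subgroup P}

theorem Inv.exists_homo (h : D.Inv A) : ∃ f, D.Homo A f := by
  classical
  have hex : ∃ f, ∀ a ∈ A, a ^ 2 ^ f = 1 := by
    haveI : Fact (Nat.Prime 2) := ⟨Nat.prime_two⟩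
    obtain ⟨n, hn⟩ := IsPGroup.iff_card.1 D.isp
    exact ⟨n, fun a _ => by rw [← hn, pow_card_eq_one']⟩
  obtain ⟨v0, hv0, hv1⟩ := D.exists_ne_one
  obtain ⟨f, hf, hmin⟩ : ∃ f, (∀ a ∈ A, a ^ 2 ^ f = 1) ∧ ∀ m < f, ¬ ∀ a ∈ A, a ^ 2 ^ m = 1 :=
    ⟨Nat.find hex, Nat.find_spec hex, fun m hm => Nat.find_min hex hm⟩
  have hpos : 1 ≤ f := by
    by_contra h0
    have := hf v0 (h.vle hv0)
    rw [show f = 0 by omega, pow_zero, pow_one] at this
    exact hv1 this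
  refine ⟨f, hpos, hf, fun v hv => ?_⟩
  rcases eq_or_ne v 1 with rfl | hv'
  · exact ⟨1, one_mem _, one_pow _⟩
  have hlast := hmin (f - 1) (by omega)
  push_neg at hlast
  obtain ⟨a, ha, ha1⟩ := hlast
  have haV : a ^ 2 ^ (f - 1) ∈ D.V := by
    rw [D.mem_V, ← pow_add, ← two_mul, ← pow_succ', show f - 1 + 1 = f by omega, hf a ha]
  obtain ⟨k, hk⟩ := D.exists_k haV ha1 hv hv'
  exact ⟨(k : MulAut P) a, h.stable k a ha, by rw [← map_pow, hk]⟩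

theorem Homo.div {f : ℕ} (hh : D.Homo A f) (h : D.Inv A) :
    ∀ (i j : ℕ), i + j ≤ f → ∀ a ∈ A, a ^ 2 ^ i = 1 → ∃ b ∈ A, b ^ 2 ^ j = a := by
  intro i
  induction i with
  | zero =>
    intro j _ a _ ha1
    rw [pow_zero, pow_one] at ha1
    exact ⟨1, one_mem _, by rw [one_pow, ha1]⟩
  | succ i ih =>
    intro j hij a ha ha1
    have hw : a ^ 2 ^ i ∈ D.V := by rw [D.mem_V, ← pow_add, ← two_mul, ← pow_succ', ha1]
    obtain ⟨c, hc, hcw⟩ := hh.root _ hw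
    set e := c ^ 2 ^ (f - 1 - i - j) with he
    have hd : (e ^ 2 ^ j) ^ 2 ^ i = a ^ 2 ^ i := by
      rw [he, ← pow_mul, ← pow_add, ← pow_mul, ← pow_add, show f - 1 - i - j + (j + i) = f - 1 by omega,
        hcw]
    have heA : e ^ 2 ^ j ∈ A := A.pow_mem (A.pow_mem hc _) _
    obtain ⟨b, hb, hb'⟩ := ih j (by omega) (a * (e ^ 2 ^ j)⁻¹) (A.mul_mem ha (A.inv_mem heA)) (by
      rw [(show Commute a (e ^ 2 ^ j)⁻¹ from h.comm a ha _ (A.inv_mem heA)).mul_pow, inv_pow, hd,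
        mul_inv_cancel])
    refine ⟨b * e, A.mul_mem hb (A.pow_mem hc _), ?_⟩
    rw [(show Commute b e from h.comm b hb e (A.pow_mem hc _)).mul_pow, hb', inv_mul_cancel_right]

theorem Homo.div_two {f : ℕ} (hh : D.Homo A f) (h : D.Inv A) {a : P} (ha : a ∈ A)
    (ha1 : a ^ 2 ^ (f - 1) = 1) : ∃ b ∈ A, b ^ 2 = a := by
  obtain ⟨b, hb, hb'⟩ := hh.div h (f - 1) 1 (by have := hh.pos; omega) a ha ha1
  exact ⟨b, hb, by simpa using hb'⟩

theorem Homo.pow_mem_V {f : ℕ} (hh : D.Homo A f) {a : P} (ha : a ∈ A) : a ^ 2 ^ (f - 1) ∈ D.V := by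
  have := hh.pos
  rw [D.mem_V, ← pow_add, ← two_mul, ← pow_succ', show f - 1 + 1 = f by omega, hh.exp a ha]

theorem exists_maximal_inv (S : Subgroup P) (hS : D.Inv S) :
    ∃ A, D.Inv A ∧ S ≤ A ∧ ∀ B, D.Inv B → A ≤ B → B = A := by
  classical
  haveI := Fintype.ofFinite (Subgroup P)
  obtain ⟨A, hA, hmax⟩ := (Finset.univ.filter fun B => D.Inv B ∧ S ≤ B).exists_maximal
    ⟨S, by simp [hS]⟩
  rw [Finset.mem_filter] at hA
  refine ⟨A, hA.2.1, hA.2.2, fun B hB hAB => le_antisymm ?_ hAB⟩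
  exact hmax (Finset.mem_filter.2 ⟨Finset.mem_univ _, hB, hA.2.2.trans hAB⟩) hAB

end Cfsg.Agent.Suzuki2.Datum
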