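/-
Higman: the centre of a non-abelian Suzuki 2-group consists of the involutions.
-/
import Cfsg.Agent.Lib.Suzuki2.Homocyclic
import Cfsg.Agent.Lib.Suzuki2.Free

set_option autoImplicit false

namespace Cfsg.Agent.Suzuki2.Datum

universe u

variable {P : Type u} [Group P] [Finite P] {D : Datum P} {A : Subgroup P}

theorem Inv.conj_mem (h : D.Inv A) (y : P) {a : P} (ha : a ∈ A) : y * a * y⁻¹ ∈ A :=
  h.normal.conj_mem a ha y

/-- The square-central elements modulo a normal subgroup. -/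
def layer (A : Subgroup P) [A.Normal] : Subgroup P where
  carrier := {y | (y : P ⧸ A) ∈ Subgroup.center (P ⧸ A) ∧ ((y : P ⧸ A)) * y = 1}
  one_mem' := ⟨one_mem _, one_mul _⟩
  mul_mem' {x y} hx hy := by
    refine ⟨mul_mem hx.1 hy.1, ?_⟩
    rw [QuotientGroup.mk_mul]
    calc (x : P ⧸ A) * y * (x * y) = (x : P ⧸ A) * (y * x) * y := by group
      _ = (x : P ⧸ A) * (x * y) * y := by rw [Subgroup.mem_center_iff.1 hx.1 (y : P ⧸ A)]
      _ = ((x : P ⧸ A) * x) * ((y : P ⧸ A) * y) := by group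
      _ = 1 := by rw [hx.2, hy.2, one_mul]
  inv_mem' {x} hx := by
    refine ⟨inv_mem hx.1, ?_⟩
    rw [QuotientGroup.mk_inv, ← mul_inv_rev, hx.2, inv_one]

theorem mem_layer [A.Normal] {y : P} :
    y ∈ layer A ↔ y * y ∈ A ∧ ∀ g, g * y * g⁻¹ * y⁻¹ ∈ A := by
  show (y : P ⧸ A) ∈ Subgroup.center (P ⧸ A) ∧ ((y : P ⧸ A)) * y = 1 ↔ _
  rw [← QuotientGroup.mk_mul, QuotientGroup.eq_one_iff, and_comm]
  refine and_congr_right fun _ => ?_
  rw [Subgroup.mem_center_iff]
  constructor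
  · intro h g
    rw [← QuotientGroup.eq_one_iff]
    simp only [QuotientGroup.mk_mul, QuotientGroup.mk_inv, h g, mul_inv_cancel_right, mul_inv_cancel]
  · intro h q
    obtain ⟨g, rfl⟩ := QuotientGroup.mk_surjective q
    have := (QuotientGroup.eq_one_iff _).2 (h g)
    simp only [QuotientGroup.mk_mul, QuotientGroup.mk_inv, mul_inv_eq_one] at this
    exact mul_inv_eq_iff_eq_mul.1 this

theorem exists_layer_not_mem [A.Normal] (hP : IsPGroup 2 P) (hA : A ≠ ⊤) :
    ∃ y ∈ layer A, y ∉ A := by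
  haveI : Fact (Nat.Prime 2) := ⟨Nat.prime_two⟩
  haveI : Nontrivial (P ⧸ A) := QuotientGroup.nontrivial_iff.2 hA
  have hq : IsPGroup 2 (P ⧸ A) := hP.to_quotient A
  haveI := hq.center_nontrivial
  obtain ⟨k, hk⟩ := IsPGroup.iff_card.1 (hq.to_subgroup (Subgroup.center (P ⧸ A)))
  have hk0 : k ≠ 0 := fun e => by
    rw [e, pow_zero] at hk
    exact (Finite.one_lt_card (α := Subgroup.center (P ⧸ A))).ne' hk
  obtain ⟨z, hz⟩ := exists_prime_orderOf_dvd_card' (G := Subgroup.center (P ⧸ A)) 2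
    (hk ▸ dvd_pow_self 2 hk0)
  obtain ⟨y, hy⟩ := QuotientGroup.mk_surjective (z : P ⧸ A)
  refine ⟨y, ⟨hy ▸ z.2, ?_⟩, fun hyA => ?_⟩
  · have h := pow_orderOf_eq_one z
    rw [hz, pow_two] at h
    rw [hy]
    exact congrArg Subtype.val h
  · rw [← Subgroup.orderOf_coe, ← hy, (QuotientGroup.eq_one_iff y).2 hyA, orderOf_one] at hz
    omega

theorem layer_stable (h : D.Inv A) [A.Normal] (k : D.K) {y : P} (hy : y ∈ layer A) :
    (k : MulAut P) y ∈ layer A := by
  rw [mem_layer] at hy ⊢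
  refine ⟨by rw [← map_mul]; exact h.stable k _ hy.1, fun g => ?_⟩
  obtain ⟨g, rfl⟩ := (k : MulAut P).surjective g
  rw [← map_inv, ← map_inv, ← map_mul, ← map_mul, ← map_mul]
  exact h.stable k _ (hy.2 g)

/-- An element centralising a maximal invariant abelian subgroup and in its layer lies in it. -/
theorem centralizing_mem [A.Normal] (h : D.Inv A) (hmax : ∀ B, D.Inv B → A ≤ B → B = A) {f : ℕ}
    (hh : D.Homo A f) (hf : 2 ≤ f) {y : P} (hy : y ∈ layer A) (hya : ∀ a ∈ A, y * a = a * y) :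
    y ∈ A := by
  classical
  set W := layer A ⊓ Subgroup.centralizer (A : Set P) with hW
  have hsqA : ∀ x ∈ W, x * x ∈ A := fun x hx => (mem_layer.1 (Subgroup.mem_inf.1 hx).1).1
  have hcA : ∀ x ∈ W, ∀ a ∈ A, a * x = x * a := fun x hx a ha =>
    Subgroup.mem_centralizer_iff.1 (Subgroup.mem_inf.1 hx).2 a ha
  have hVW : ∀ x ∈ W, ∀ z ∈ W, x * z * x⁻¹ * z⁻¹ ∈ D.V := by
    intro x hx z hz
    set c := x * z * x⁻¹ * z⁻¹ with hc
    have hcA' : c ∈ A := (mem_layer.1 (Subgroup.mem_inf.1 hz).1).2 x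
    have e : x * x * z * (x * x)⁻¹ * z⁻¹ = c * c := by
      calc x * x * z * (x * x)⁻¹ * z⁻¹ = x * c * (z * x⁻¹ * z⁻¹) := by rw [hc]; group
        _ = c * (x * z * x⁻¹ * z⁻¹) := by rw [← hcA x hx c hcA']; group
        _ = c * c := by rw [hc]
    rw [D.mem_V, ← e, hcA z hz _ (hsqA x hx)]
    group
  have hkill : ∀ v ∈ D.V, v ^ 2 ^ (f - 1) = 1 := fun v hv => by
    obtain ⟨m, hm⟩ := Nat.exists_eq_add_of_le hf
    rw [show 2 ^ (f - 1) = 2 * 2 ^ m by rw [← pow_succ']; congr 1; omega, pow_mul, pow_two,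
      D.mem_V.1 hv, one_pow]
  let φ : P → P := fun x => (x * x) ^ 2 ^ (f - 1)
  have hφV : ∀ x ∈ W, φ x ∈ D.V := fun x hx => hh.pow_mem_V (hsqA x hx)
  have hφmul : ∀ x ∈ W, ∀ z ∈ W, φ (x * z) = φ x * φ z := by
    intro x hx z hz
    have hv : z * x * z⁻¹ * x⁻¹ ∈ D.V := hVW z hz x hx
    have e : x * z * (x * z) = (x * x) * (z * z) * (z * x * z⁻¹ * x⁻¹) := by
      calc x * z * (x * z) = x * (z * x * z⁻¹ * x⁻¹) * (x * (z * z)) := by group
        _ = (z * x * z⁻¹ * x⁻¹) * (x * x * (z * z)) := by rw [D.V_central hv x]; group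
        _ = _ := by rw [D.V_central hv]
    show _ ^ _ = _ ^ _ * _ ^ _
    rw [e, (show Commute (x * x * (z * z)) (z * x * z⁻¹ * x⁻¹) from D.V_central hv _).mul_pow,
      hkill _ hv, mul_one,
      (show Commute (x * x) (z * z) from h.comm _ (hsqA x hx) _ (hsqA z hz)).mul_pow]
  have hφA : ∀ a ∈ A, φ a = 1 := fun a ha => by
    show (a * a) ^ _ = 1
    rw [← pow_two, ← pow_mul, ← pow_succ', show f - 1 + 1 = f by omega, hh.exp a ha]
  have hker : ∀ x ∈ W, φ x = 1 → x ∈ A := by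
    intro x hx hx1
    obtain ⟨b, hb, hb2⟩ := hh.div_two h (hsqA x hx) hx1
    have hv : x * b⁻¹ ∈ D.V := by
      rw [D.mem_V]
      calc x * b⁻¹ * (x * b⁻¹) = x * (b⁻¹ * x) * b⁻¹ := by group
        _ = x * (x * b⁻¹) * b⁻¹ := by rw [hcA x hx _ (A.inv_mem hb)]
        _ = (x * x) * (b⁻¹ * b⁻¹) := by group
        _ = 1 := by rw [← hb2, pow_two]; group
    have := A.mul_mem (h.vle hv) hb
    rwa [inv_mul_cancel_right] at this
  by_contra hyA
  have hyW : y ∈ W := Subgroup.mem_inf.2 ⟨hy, Subgroup.mem_centralizer_iff.2 fun a ha => (hya a ha).symm⟩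
  have hWK : ∀ k : D.K, ∀ x ∈ W, (k : MulAut P) x ∈ W := fun k x hx => by
    refine Subgroup.mem_inf.2 ⟨layer_stable h k (Subgroup.mem_inf.1 hx).1,
      Subgroup.mem_centralizer_iff.2 fun a ha => ?_⟩
    obtain ⟨a', rfl⟩ := (k : MulAut P).surjective a
    have ha' : a' ∈ A := by
      have := h.stable k⁻¹ _ ha
      simpa using this
    rw [← map_mul, ← map_mul, hcA x hx a' ha']
  have hsurj : ∀ v ∈ D.V, ∃ x ∈ W, φ x = v := by
    intro v hv
    rcases eq_or_ne v 1 with rfl | hv1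
    · exact ⟨1, one_mem _, hφA 1 (one_mem _)⟩
    obtain ⟨k, hk⟩ := D.exists_k (hφV y hyW) (fun e => hyA (hker y hyW e)) hv hv1
    refine ⟨(k : MulAut P) y, hWK k y hyW, ?_⟩
    rw [← hk]
    show _ = (k : MulAut P) (_ ^ _)
    rw [map_pow, map_mul]
  choose! s hsW hs using hsurj
  have hmodA : ∀ x ∈ W, ∃ a ∈ A, x = s (φ x) * a := fun x hx => by
    refine ⟨(s (φ x))⁻¹ * x, ?_, by group⟩
    refine hker _ (W.mul_mem (W.inv_mem (hsW _ (hφV x hx))) hx) ?_
    have h1 := hφmul _ (W.inv_mem (hsW _ (hφV x hx))) _ (hsW _ (hφV x hx))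
    rw [inv_mul_cancel, hφA 1 (one_mem _), hs _ (hφV x hx)] at h1
    rw [hφmul _ (W.inv_mem (hsW _ (hφV x hx))) _ hx, ← h1]
  let br : P → P → P := fun x z => x * z * x⁻¹ * z⁻¹
  have hbrl : ∀ x ∈ W, ∀ x' ∈ W, ∀ z ∈ W, br (x * x') z = br x z * br x' z := by
    intro x hx x' hx' z hz
    have hv := hVW x' hx' z hz
    calc br (x * x') z = x * (x' * z * x'⁻¹ * z⁻¹) * (z * x⁻¹ * z⁻¹) := by
          simp only [br]; group
      _ = (x' * z * x'⁻¹ * z⁻¹) * br x z := by rw [D.V_central hv x]; simp only [br]; group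
      _ = br x z * br x' z := (D.V_central hv _).symm
  have hbrs : ∀ x ∈ W, ∀ z ∈ W, br z x = (br x z)⁻¹ := fun x _ z _ => by simp only [br]; group
  have hbrA : ∀ a ∈ A, ∀ z ∈ W, br a z = 1 := fun a ha z hz => by
    simp only [br]; rw [hcA z hz a ha]; group
  have hindep : ∀ x ∈ W, ∀ z ∈ W, br x z = br (s (φ x)) (s (φ z)) := by
    intro x hx z hz
    obtain ⟨a, ha, hxa⟩ := hmodA x hx
    obtain ⟨b, hb, hzb⟩ := hmodA z hz
    have hs1 := hsW _ (hφV x hx)
    have hs2 := hsW _ (hφV z hz)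
    have haW : a ∈ W := by
      rw [eq_inv_mul_of_mul_eq hxa.symm]
      exact W.mul_mem (W.inv_mem hs1) hx
    have hbW : b ∈ W := by
      rw [eq_inv_mul_of_mul_eq hzb.symm]
      exact W.mul_mem (W.inv_mem hs2) hz
    conv_lhs => rw [hxa, hbrl _ hs1 _ haW z hz, hbrA a ha z hz, mul_one]
    conv_lhs => rw [hbrs z hz _ hs1, hzb, hbrl _ hs2 _ hbW _ hs1, hbrA b hb _ hs1, mul_one,
      ← hbrs _ hs2 _ hs1]
  have htriv := D.equivariant_alternating_trivial (fun u v => br (s u) (s v))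
    (fun u hu v hv => hVW _ (hsW u hu) _ (hsW v hv))
    (fun u hu u' hu' v hv => by
      rw [← hbrl _ (hsW u hu) _ (hsW u' hu') _ (hsW v hv),
        hindep (s u * s u') (W.mul_mem (hsW u hu) (hsW u' hu')) _ (hsW v hv),
        hφmul _ (hsW u hu) _ (hsW u' hu'), hs u hu, hs u' hu', hs v hv])
    (fun u hu v hv v' hv' => by
      have h2 := hsW _ (D.V.mul_mem hv hv')
      have e : br (s (v * v')) (s u) = br (s v) (s u) * br (s v') (s u) := by
        rw [← hbrl _ (hsW v hv) _ (hsW v' hv') _ (hsW u hu),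
          hindep (s v * s v') (W.mul_mem (hsW v hv) (hsW v' hv')) _ (hsW u hu),
          hφmul _ (hsW v hv) _ (hsW v' hv'), hs v hv, hs v' hv', hs u hu]
      show br _ _ = br _ _ * br _ _
      rw [hbrs _ h2 _ (hsW u hu), e, mul_inv_rev, ← hbrs _ (hsW v' hv') _ (hsW u hu),
        ← hbrs _ (hsW v hv) _ (hsW u hu)]
      exact (D.V_central (hVW _ (hsW u hu) _ (hsW v' hv')) _).symm)
    (fun k u hu v hv => by
      show br _ _ = (k : MulAut P) (br _ _)
      have hk : ∀ x ∈ W, φ ((k : MulAut P) x) = (k : MulAut P) (φ x) := fun x _ => by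
        show _ ^ _ = (k : MulAut P) (_ ^ _)
        rw [map_pow, map_mul]
      have := hindep _ (hWK k _ (hsW u hu)) _ (hWK k _ (hsW v hv))
      rw [hk _ (hsW u hu), hk _ (hsW v hv), hs u hu, hs v hv] at this
      rw [← this]
      simp only [br, map_mul, map_inv])
    (fun u hu => by simp only [br]; group)
  have hWcomm : ∀ x ∈ W, ∀ z ∈ W, x * z = z * x := fun x hx z hz => by
    have e := hindep x hx z hz
    rw [htriv _ (hφV x hx) _ (hφV z hz)] at e
    simp only [br, mul_inv_eq_one] at e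
    exact mul_inv_eq_iff_eq_mul.1 e
  have hAW : A ≤ W := fun a ha => Subgroup.mem_inf.2
    ⟨mem_layer.2 ⟨A.mul_mem ha ha, fun g => A.mul_mem (h.conj_mem g ha) (A.inv_mem ha)⟩,
      Subgroup.mem_centralizer_iff.2 fun b hb => h.comm b hb a ha⟩
  have hWn : W.Normal := ⟨fun x hx g => by
    refine Subgroup.mem_inf.2 ⟨?_, Subgroup.mem_centralizer_iff.2 fun a ha => ?_⟩
    · have hmem := (mem_layer.1 (Subgroup.mem_inf.1 hx).1).2 g
      have := (layer A).mul_mem (show g * x * g⁻¹ * x⁻¹ ∈ layer A from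
        (Subgroup.mem_inf.1 (hAW hmem)).1) (Subgroup.mem_inf.1 hx).1
      rwa [inv_mul_cancel_right] at this
    · have ha' := h.conj_mem g⁻¹ ha
      rw [inv_inv] at ha'
      calc a * (g * x * g⁻¹) = g * ((g⁻¹ * a * g) * x) * g⁻¹ := by group
        _ = g * x * g⁻¹ * a := by rw [hcA x hx _ ha']; group⟩
  exact hyA (hmax W ⟨hWcomm, hWK, hWn, h.vle.trans hAW⟩ hAW ▸ hyW)

/-- A maximal abelian normal invariant subgroup has exponent at most four. -/
theorem exponent_le_four (h : D.Inv A) (hmax : ∀ B, D.Inv B → A ≤ B → B = A) {f : ℕ}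
    (hh : D.Homo A f) (htop : A ≠ ⊤) : f ≤ 2 := by
  classical
  by_contra hlt
  have hf : 3 ≤ f := by omega
  haveI := h.normal
  obtain ⟨y0, hy0, hy0A⟩ := exists_layer_not_mem D.isp htop
  let d : P → P → P := fun y b => y * b * y⁻¹ * b⁻¹
  have hdA : ∀ y, ∀ b ∈ A, d y b ∈ A := fun y b hb => A.mul_mem (h.conj_mem y hb) (A.inv_mem hb)
  have hdmul : ∀ y, ∀ b ∈ A, ∀ b' ∈ A, d y (b * b') = d y b * d y b' := by
    intro y b hb b' hb'
    calc d y (b * b') = (y * b * y⁻¹) * (y * b' * y⁻¹ * b'⁻¹) * b⁻¹ := by simp only [d]; group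
      _ = (y * b * y⁻¹ * b⁻¹) * (y * b' * y⁻¹ * b'⁻¹) := by
        rw [mul_assoc, h.comm _ (hdA y b' hb') _ (A.inv_mem hb), ← mul_assoc]
  have hdone : ∀ y, d y 1 = 1 := fun y => by simp only [d]; group
  have hdpow : ∀ y, ∀ b ∈ A, ∀ n : ℕ, d y (b ^ n) = d y b ^ n := by
    intro y b hb n
    induction n with
    | zero => rw [pow_zero, pow_zero, hdone]
    | succ n ih => rw [pow_succ, pow_succ, hdmul y _ (A.pow_mem hb n) b hb, ih]
  have hdiv1 : ∀ y, ∀ b ∈ A, ∃ c ∈ A, c ^ 2 = d y b := by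
    intro y b hb
    refine hh.div_two h (hdA y b hb) ?_
    rw [← hdpow y b hb]
    show y * b ^ 2 ^ (f - 1) * y⁻¹ * (b ^ 2 ^ (f - 1))⁻¹ = 1
    rw [conj_fix (hh.pow_mem_V hb), mul_inv_cancel]
  have hdd : ∀ y ∈ layer A, ∀ b ∈ A, d y (d y b) * (d y b * d y b) = 1 := by
    intro y hy b hb
    have hyy := (mem_layer.1 hy).1
    have e1 : y * (y * b * y⁻¹) * y⁻¹ = b := by
      calc y * (y * b * y⁻¹) * y⁻¹ = (y * y) * b * (y * y)⁻¹ := by group
        _ = b := by rw [h.comm _ hyy b hb, mul_inv_cancel_right]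
    have e2 : b = (y * d y b * y⁻¹) * (d y b * b) := by
      conv_lhs => rw [← e1]
      simp only [d]; group
    have e3 : b = d y (d y b) * (d y b * d y b) * b := by
      conv_lhs => rw [e2]
      simp only [d]; group
    exact (right_eq_mul.1 e3)
  have hpow2 : ∀ x : P, (x ^ 2) ^ 2 ^ (f - 2) = x ^ 2 ^ (f - 1) := fun x => by
    rw [← pow_mul, ← pow_succ', show f - 2 + 1 = f - 1 by omega]
  choose! t ht htv using hh.root
  let E : P → P → P := fun y v => d y (t v) ^ 2 ^ (f - 2)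
  have hEV : ∀ y, ∀ v ∈ D.V, E y v ∈ D.V := by
    intro y v hv
    obtain ⟨c, hc, hc2⟩ := hdiv1 y _ (ht v hv)
    show d y (t v) ^ _ ∈ D.V
    rw [← hc2, hpow2]
    exact hh.pow_mem_V hc
  have hEsq : ∀ y, ∀ b ∈ A, d y (b ^ 2) ^ 2 ^ (f - 2) = 1 := by
    intro y b hb
    obtain ⟨c, hc, hc2⟩ := hdiv1 y b hb
    rw [hdpow y b hb, ← hc2, ← pow_mul, ← pow_mul, show 2 * (2 * 2 ^ (f - 2)) = 2 ^ f by
      rw [← pow_succ', ← pow_succ']; congr 1; omega, hh.exp c hc]
  have hEval : ∀ y, ∀ b ∈ A, E y (b ^ 2 ^ (f - 1)) = d y b ^ 2 ^ (f - 2) := by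
    intro y b hb
    set b' := t (b ^ 2 ^ (f - 1)) with hb'
    have hb'A : b' ∈ A := ht _ (hh.pow_mem_V hb)
    obtain ⟨c, hc, hc2⟩ := hh.div_two h (A.mul_mem (A.inv_mem hb) hb'A) (by
      rw [(show Commute b⁻¹ b' from h.comm _ (A.inv_mem hb) _ hb'A).mul_pow, inv_pow, hb',
        htv _ (hh.pow_mem_V hb), inv_mul_cancel])
    show d y b' ^ _ = _
    rw [show b' = b * c ^ 2 by rw [hc2, mul_inv_cancel_left], hdmul y b hb _ (A.pow_mem hc _),
      (show Commute (d y b) (d y (c ^ 2)) from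
        h.comm _ (hdA y b hb) _ (hdA y _ (A.pow_mem hc _))).mul_pow, hEsq y c hc, mul_one]
  have hElin : ∀ y, ∀ v ∈ D.V, ∀ w ∈ D.V, E y (v * w) = E y v * E y w := by
    intro y v hv w hw
    rw [← htv v hv, ← htv w hw,
      ← (show Commute (t v) (t w) from h.comm _ (ht v hv) _ (ht w hw)).mul_pow,
      hEval y _ (A.mul_mem (ht v hv) (ht w hw)), hEval y _ (ht v hv), hEval y _ (ht w hw),
      hdmul y _ (ht v hv) _ (ht w hw),
      (show Commute (d y (t v)) (d y (t w)) from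
        h.comm _ (hdA y _ (ht v hv)) _ (hdA y _ (ht w hw))).mul_pow]
  have hEone : ∀ y, E y 1 = 1 := fun y => by
    have e := hElin y 1 (one_mem _) 1 (one_mem _)
    rw [one_mul] at e
    exact left_eq_mul.1 e
  have hEidem : ∀ y ∈ layer A, ∀ v ∈ D.V, E y (E y v) = E y v := by
    intro y hy v hv
    obtain ⟨c, hc, hc2⟩ := hdiv1 y _ (ht v hv)
    have e1 : E y v = c ^ 2 ^ (f - 1) := by
      show d y (t v) ^ _ = _
      rw [← hc2, hpow2]
    have hu : d y c * c ^ 2 ∈ D.V := by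
      rw [D.mem_V, ← pow_two, (show Commute (d y c) (c ^ 2) from
        h.comm _ (hdA y c hc) _ (A.pow_mem hc _)).mul_pow, ← hdpow y c hc, hc2, pow_two]
      exact hdd y hy _ (ht v hv)
    have e2 : d y c ^ 2 ^ (f - 2) * c ^ 2 ^ (f - 1) = 1 := by
      rw [← hpow2, ← (show Commute (d y c) (c ^ 2) from
        h.comm _ (hdA y c hc) _ (A.pow_mem hc _)).mul_pow,
        show 2 ^ (f - 2) = 2 * 2 ^ (f - 3) by rw [← pow_succ']; congr 1; omega, pow_mul, pow_two,
        D.mem_V.1 hu, one_pow]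
    rw [e1, hEval y c hc, eq_inv_of_mul_eq_one_left e2]
    exact inv_eq_of_mul_eq_one_right (D.mem_V.1 (hh.pow_mem_V hc))
  have hEmul : ∀ y z, ∀ v ∈ D.V, E (y * z) v = E y v * E z v := by
    intro y z v hv
    have hb := ht v hv
    obtain ⟨c, hc, hc2⟩ := hdiv1 z _ hb
    have e : d (y * z) (t v) = d y (d z (t v)) * d z (t v) * d y (t v) := by simp only [d]; group
    have hA1 := hdA y _ (hdA z _ hb)
    show d (y * z) (t v) ^ _ = d y (t v) ^ _ * d z (t v) ^ _
    rw [e, (show Commute (d y (d z (t v)) * d z (t v)) (d y (t v)) from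
        h.comm _ (A.mul_mem hA1 (hdA z _ hb)) _ (hdA y _ hb)).mul_pow,
      (show Commute (d y (d z (t v))) (d z (t v)) from h.comm _ hA1 _ (hdA z _ hb)).mul_pow]
    nth_rewrite 1 [← hc2]
    rw [hEsq y c hc, one_mul]
    exact h.comm _ (A.pow_mem (hdA z _ hb) _) _ (A.pow_mem (hdA y _ hb) _)
  have hEcomm : ∀ y ∈ layer A, ∀ z ∈ layer A, ∀ v ∈ D.V, E y (E z v) = E z (E y v) := by
    intro y hy z hz v hv
    have hyv := hEV y v hv
    have hzv := hEV z v hv
    have e := hEidem _ ((layer A).mul_mem hy hz) v hv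
    rw [hEmul y z v hv, hEmul y z _ (mul_mem hyv hzv), hElin y _ hyv _ hzv, hElin z _ hyv _ hzv,
      hEidem y hy v hv, hEidem z hz v hv] at e
    have hc := D.V_central (hEV y _ hzv) (E y v)
    have e' : E y (E z v) * E z (E y v) = 1 := by
      have h1 : E y v * (E y (E z v) * E z (E y v)) * E z v = E y v * E z v := by
        rw [← e]; group
      rw [mul_left_inj] at h1
      exact mul_eq_left.1 h1
    rw [eq_inv_of_mul_eq_one_left e',
      inv_eq_of_mul_eq_one_right (D.mem_V.1 (hEV z _ hyv))]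
  have hEk : ∀ (k : D.K) (y : P), ∀ v ∈ D.V,
      E ((k : MulAut P) y) ((k : MulAut P) v) = (k : MulAut P) (E y v) := by
    intro k y v hv
    conv_lhs => arg 2; rw [← htv v hv, map_pow]
    rw [hEval _ _ (h.stable k _ (ht v hv))]
    show d _ _ ^ _ = (k : MulAut P) (d y (t v) ^ _)
    rw [map_pow]
    simp only [d, map_mul, map_inv]
  let good : P → Prop := fun v => ∀ y ∈ layer A, E y v = 1 ∨ E y v = v
  have hgood : ∀ v ∈ D.V, v ≠ 1 → good v := by
    obtain ⟨v0, hv0, hv01⟩ := D.exists_ne_one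
    let S := {v : P // v ∈ D.V ∧ v ≠ 1}
    haveI : Nonempty S := ⟨⟨v0, hv0, hv01⟩⟩
    obtain ⟨m, hm⟩ := Finite.exists_max (fun v : S => Nat.card {y : P // y ∈ layer A ∧ E y v.1 = 1})
    have hm' : good m.1 := by
      intro y hy
      by_contra hne
      push_neg at hne
      set w := m.1 * E y m.1 with hw
      have hwV : w ∈ D.V := mul_mem m.2.1 (hEV y _ m.2.1)
      have hw1 : w ≠ 1 := fun e => hne.2 (by
        rw [eq_inv_of_mul_eq_one_right e, inv_eq_of_mul_eq_one_right (D.mem_V.1 m.2.1)])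
      have hlt : Nat.card {z : P // z ∈ layer A ∧ E z m.1 = 1} <
          Nat.card {z : P // z ∈ layer A ∧ E z w = 1} := by
        haveI := Fintype.ofFinite {z : P // z ∈ layer A ∧ E z m.1 = 1}
        haveI := Fintype.ofFinite {z : P // z ∈ layer A ∧ E z w = 1}
        rw [Nat.card_eq_fintype_card, Nat.card_eq_fintype_card]
        refine Fintype.card_lt_of_injective_of_notMem
          (f := fun z : {z : P // z ∈ layer A ∧ E z m.1 = 1} => (⟨z.1, z.2.1, by
            rw [hw, hElin _ _ m.2.1 _ (hEV y _ m.2.1), z.2.2, hEcomm _ z.2.1 y hy _ m.2.1, z.2.2,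
              hEone, one_mul]⟩ : {z : P // z ∈ layer A ∧ E z w = 1}))
          (fun a b e => Subtype.ext (congrArg (fun z : {z : P // z ∈ layer A ∧ E z w = 1} => z.1) e))
          (b := ⟨y, hy, by rw [hw, hElin _ _ m.2.1 _ (hEV y _ m.2.1), hEidem y hy _ m.2.1,
            D.mem_V.1 (hEV y _ m.2.1)]⟩) ?_
        rintro ⟨z, hz⟩
        have hzy : z.1 = y := congrArg (fun z : {z : P // z ∈ layer A ∧ E z w = 1} => z.1) hz
        exact hne.1 (hzy ▸ z.2.2)
      exact absurd (hm ⟨w, hwV, hw1⟩) (not_le.2 hlt)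
    intro v hv hv1 y hy
    obtain ⟨k, hk⟩ := D.exists_k m.2.1 m.2.2 hv hv1
    obtain ⟨y', rfl⟩ := (k : MulAut P).surjective y
    have hy' : y' ∈ layer A := by
      have := layer_stable h k⁻¹ hy
      simpa using this
    rw [← hk, hEk k y' _ m.2.1]
    rcases hm' y' hy' with e | e
    · exact Or.inl (by rw [e, map_one])
    · exact Or.inr (by rw [e])
  have hall : ∀ y ∈ layer A, (∀ v ∈ D.V, E y v = 1) ∨ ∀ v ∈ D.V, E y v = v := by
    intro y hy
    by_contra hne
    push_neg at hne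
    obtain ⟨⟨v, hv, hv1⟩, ⟨w, hw, hw1⟩⟩ := hne
    have hvn : v ≠ 1 := fun e => hv1 (by rw [e, hEone])
    have hwn : w ≠ 1 := fun e => hw1 (by rw [e, hEone])
    have ev := (hgood v hv hvn y hy).resolve_left hv1
    have ew := (hgood w hw hwn y hy).resolve_right hw1
    have hvw : v * w ≠ 1 := fun e => hv1 (by
      rw [eq_inv_of_mul_eq_one_left e, inv_eq_of_mul_eq_one_right (D.mem_V.1 hw), ew])
    rcases hgood _ (mul_mem hv hw) hvw y hy with e | e
    · rw [hElin y v hv w hw, ev, ew, mul_one] at e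
      exact hvn e
    · rw [hElin y v hv w hw, ev, ew] at e
      exact hwn (mul_left_cancel e).symm
  have hEzero : ∀ y ∈ layer A, ∀ v ∈ D.V, E y v = 1 := by
    let L0 : Subgroup P :=
      { carrier := {y | y ∈ layer A ∧ ∀ v ∈ D.V, E y v = 1}
        one_mem' := ⟨one_mem _, fun v hv => by
          have e := hEmul 1 1 v hv
          rw [one_mul] at e
          exact left_eq_mul.1 e⟩
        mul_mem' := fun {a b} ha hb => ⟨mul_mem ha.1 hb.1, fun v hv => by
          rw [hEmul a b v hv, ha.2 v hv, hb.2 v hv, one_mul]⟩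
        inv_mem' := fun {a} ha => ⟨inv_mem ha.1, fun v hv => by
          have e := hEmul a⁻¹ a v hv
          rw [inv_mul_cancel, ha.2 v hv, mul_one] at e
          rw [← e]
          have e1 := hEmul 1 1 v hv
          rw [one_mul] at e1
          exact left_eq_mul.1 e1⟩ }
    have hL0 : ∀ k : D.K, ∀ a ∈ L0, (k : MulAut P) a ∈ L0 := by
      intro k a ha
      refine ⟨layer_stable h k ha.1, fun v hv => ?_⟩
      have hv' : ((k⁻¹ : D.K) : MulAut P) v ∈ D.V := D.map_V _ hv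
      have e := hEk k a _ hv'
      rw [ha.2 _ hv', map_one] at e
      rw [← e]
      simp
    intro y hy
    rcases hall y hy with e | e
    · exact e
    obtain ⟨k, hk⟩ : ∃ k : D.K, k ≠ 1 := by
      obtain ⟨u, v, huv, hu, hu2, hv, hv2⟩ := D.two
      obtain ⟨k, hk⟩ := (D.reg u v hu hu2 hv hv2).exists
      exact ⟨k, fun e => huv (by rw [← hk, e]; rfl)⟩
    have hky := layer_stable h k hy
    have hmem : y⁻¹ * (k : MulAut P) y ∈ L0 := by
      refine ⟨mul_mem (inv_mem hy) hky, fun v hv => ?_⟩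
      obtain ⟨v', rfl⟩ := (k : MulAut P).surjective v
      have hv' : v' ∈ D.V := by
        have := D.map_V ((k⁻¹ : D.K) : MulAut P) hv
        simpa using this
      have e1 := hEmul y⁻¹ y _ hv
      rw [inv_mul_cancel, e _ hv] at e1
      rw [hEmul _ _ _ hv, hEk k y v' hv', e v' hv', ← e1]
      have e2 := hEmul 1 1 _ hv
      rw [one_mul] at e2
      exact left_eq_mul.1 e2
    exact (D.free_section hL0 hk hmem).2
  have hd4 : ∀ y ∈ layer A, ∀ b ∈ A, ∃ c ∈ A, c ^ 4 = d y b := by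
    intro y hy b hb
    obtain ⟨c, hc, hc'⟩ := hh.div h (f - 2) 2 (by omega) _ (hdA y b hb) (by
      rw [← hEval y b hb, hEzero y hy _ (hh.pow_mem_V hb)])
    exact ⟨c, hc, by simpa using hc'⟩
  have hd2 : ∀ y ∈ layer A, ∀ b ∈ A, d y b * d y b = 1 := by
    intro y hy
    have step : ∀ b ∈ A, ∃ b' ∈ A, d y b * d y b = (d y b' * d y b') ^ 2 := by
      intro b hb
      obtain ⟨c, hc, hc4⟩ := hd4 y hy b hb
      refine ⟨c⁻¹, A.inv_mem hc, ?_⟩
      have e := hdd y hy b hb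
      conv at e => lhs; arg 1; rw [← hc4, hdpow y c hc]
      have hinv : d y c⁻¹ = (d y c)⁻¹ := by
        refine eq_inv_of_mul_eq_one_left ?_
        rw [← hdmul y _ (A.inv_mem hc) c hc, inv_mul_cancel, hdone]
      rw [eq_inv_of_mul_eq_one_right e, hinv]
      group
    have iter : ∀ n : ℕ, ∀ b ∈ A, ∃ b' ∈ A, d y b * d y b = (d y b' * d y b') ^ 2 ^ n := by
      intro n
      induction n with
      | zero => exact fun b hb => ⟨b, hb, by rw [pow_zero, pow_one]⟩
      | succ n ih =>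
        intro b hb
        obtain ⟨b', hb', e⟩ := step b hb
        obtain ⟨b'', hb'', e'⟩ := ih b' hb'
        exact ⟨b'', hb'', by rw [e, e', ← pow_mul, ← pow_succ]⟩
    intro b hb
    obtain ⟨b', hb', e⟩ := iter f b hb
    rw [e, hh.exp _ (A.mul_mem (hdA y b' hb') (hdA y b' hb'))]
  have hdV : ∀ y ∈ layer A, ∀ b ∈ A, d y b ∈ D.V := fun y hy b hb => D.mem_V.2 (hd2 y hy b hb)
  have hdsq : ∀ y ∈ layer A, ∀ b ∈ A, d y (b ^ 2) = 1 := fun y hy b hb => by
    rw [hdpow y b hb, pow_two, hd2 y hy b hb]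
  have hkill : ∀ n, 1 ≤ n → ∀ v ∈ D.V, v ^ 2 ^ n = 1 := fun n hn v hv => by
    rw [show 2 ^ n = 2 * 2 ^ (n - 1) by rw [← pow_succ']; congr 1; omega, pow_mul, pow_two,
      D.mem_V.1 hv, one_pow]
  let ψ : P → P := fun y => (y * y) ^ 2 ^ (f - 1)
  have hψV : ∀ y ∈ layer A, ψ y ∈ D.V := fun y hy => hh.pow_mem_V (mem_layer.1 hy).1
  have hψmul : ∀ x ∈ layer A, ∀ y ∈ layer A, ψ (x * y) = ψ x * ψ y := by
    intro x hx y hy
    have hxx := (mem_layer.1 hx).1
    have hyy := (mem_layer.1 hy).1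
    set c := y * x * y⁻¹ * x⁻¹ with hc
    have hcA : c ∈ A := (mem_layer.1 hx).2 y
    have e : x * y * (x * y) = d x c * c * ((x * x) * (y * y)) := by simp only [d, hc]; group
    have e2 : d y (x * x) = c * c * d x c := by
      have e' : d y (x * x) = c * (d x c * c) := by simp only [d, hc]; group
      rw [e', h.comm _ (hdA x c hcA) c hcA, ← mul_assoc c c]
    have hcV : c * c ∈ D.V := by
      have := D.V.mul_mem (hdV y hy _ hxx) (D.V.inv_mem (hdV x hx c hcA))
      rwa [e2, mul_inv_cancel_right] at this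
    have hc4 : c ^ 2 ^ (f - 1) = 1 := by
      rw [show f - 1 = 2 + (f - 3) by omega, pow_add, pow_mul,
        show c ^ 2 ^ 2 = c * c * (c * c) by rw [show 2 ^ 2 = 2 + 2 by norm_num, pow_add, pow_two], D.mem_V.1 hcV, one_pow]
    show _ ^ _ = _ ^ _ * _ ^ _
    rw [e, (show Commute (d x c * c) ((x * x) * (y * y)) from
        h.comm _ (A.mul_mem (hdA x c hcA) hcA) _ (A.mul_mem hxx hyy)).mul_pow,
      (show Commute (d x c) c from h.comm _ (hdA x c hcA) _ hcA).mul_pow, hc4,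
      hkill _ (by omega) _ (hdV x hx c hcA), one_mul, one_mul,
      (show Commute (x * x) (y * y) from h.comm _ hxx _ hyy).mul_pow]
  have hψker : ∀ y ∈ layer A, ψ y = 1 → y ∈ A := by
    intro y hy hy1
    obtain ⟨b0, hb0, hb02⟩ := hh.div_two h (mem_layer.1 hy).1 hy1
    have hv := hdV y hy _ (A.inv_mem hb0)
    obtain ⟨w, hw, hwv⟩ := hh.root _ hv
    obtain ⟨n, hn⟩ : ∃ n, f = n + 3 := ⟨f - 3, by omega⟩
    set b := b0⁻¹ * (w ^ 2 ^ n) ^ 2 with hbdef
    have hb : b ∈ A := A.mul_mem (A.inv_mem hb0) (A.pow_mem (A.pow_mem hw _) _)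
    have hdb : d y b = d y b0⁻¹ := by
      rw [hbdef, hdmul y _ (A.inv_mem hb0) _ (A.pow_mem (A.pow_mem hw _) _),
        hdsq y hy _ (A.pow_mem hw _), mul_one]
    have hkey : y * b ∈ D.V := by
      rw [D.mem_V]
      have e : y * b * (y * b) = d y b * (b * (y * y) * b) := by simp only [d]; group
      have hbb : b * (y * y) * b = (w ^ 2 ^ n) ^ 4 := by
        rw [← hb02, hbdef, pow_two b0]
        set m := w ^ 2 ^ n
        have hm : m ∈ A := A.pow_mem hw _
        have hcm := h.comm (m ^ 2) (A.pow_mem hm _) b0 hb0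
        calc b0⁻¹ * m ^ 2 * (b0 * b0) * (b0⁻¹ * m ^ 2)
            = b0⁻¹ * (m ^ 2 * b0) * m ^ 2 := by group
          _ = m ^ 4 := by rw [hcm]; group
      rw [e, hdb, hbb, ← pow_mul, show (4 : ℕ) = 2 ^ 2 by norm_num, ← pow_add,
        show n + 2 = f - 1 by omega, hwv, D.mem_V.1 hv]
    have := A.mul_mem (h.vle hkey) (A.inv_mem hb)
    rwa [mul_inv_cancel_right] at this
  have hψne : ψ y0 ≠ 1 := fun e => hy0A (hψker y0 hy0 e)
  have hψk : ∀ (k : D.K) y, ψ ((k : MulAut P) y) = (k : MulAut P) (ψ y) := fun k y => by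
    show _ ^ _ = (k : MulAut P) (_ ^ _)
    rw [map_pow, map_mul]
  have hsurj : ∀ v ∈ D.V, ∃ y ∈ layer A, ψ y = v := fun v hv => by
    rcases eq_or_ne v 1 with rfl | hv1
    · exact ⟨1, one_mem _, by show (1 * 1 : P) ^ _ = 1; rw [one_mul, one_pow]⟩
    obtain ⟨k, hk⟩ := D.exists_k (hψV y0 hy0) hψne hv hv1
    exact ⟨(k : MulAut P) y0, layer_stable h k hy0, by rw [hψk, hk]⟩
  choose! s hs hsψ using hsurj
  -- independence of representatives
  have hdyA : ∀ y ∈ layer A, ∀ y' ∈ layer A, ψ y = ψ y' → ∀ b ∈ A, d y b = d y' b := by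
    intro y hy y' hy' e b hb
    have hmem : y'⁻¹ * y ∈ A := by
      refine hψker _ ((layer A).mul_mem ((layer A).inv_mem hy') hy) ?_
      have h1 := hψmul _ ((layer A).inv_mem hy') _ hy'
      rw [inv_mul_cancel, show ψ 1 = 1 by show (1 * 1 : P) ^ _ = 1; rw [one_mul, one_pow]] at h1
      rw [hψmul _ ((layer A).inv_mem hy') _ hy, e, ← h1]
    calc d y b = y' * ((y'⁻¹ * y) * b * (y'⁻¹ * y)⁻¹) * y'⁻¹ * b⁻¹ := by simp only [d]; group
      _ = d y' b := by rw [h.comm _ hmem b hb, mul_inv_cancel_right]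
  have hdb : ∀ y ∈ layer A, ∀ b ∈ A, ∀ b' ∈ A, b ^ 2 ^ (f - 1) = b' ^ 2 ^ (f - 1) →
      d y b = d y b' := by
    intro y hy b hb b' hb' e
    obtain ⟨c, hc, hc2⟩ := hh.div_two h (A.mul_mem (A.inv_mem hb') hb) (by
      rw [(show Commute b'⁻¹ b from h.comm _ (A.inv_mem hb') _ hb).mul_pow, inv_pow, e, inv_mul_cancel])
    have : b = b' * c ^ 2 := by rw [hc2, mul_inv_cancel_left]
    rw [this, hdmul y _ hb' _ (A.pow_mem hc _), hdsq y hy c hc, mul_one]
  have htriv := D.equivariant_alternating_trivial (fun u v => d (s u) (t v))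
    (fun u hu v hv => hdV _ (hs u hu) _ (ht v hv))
    (fun u hu u' hu' v hv => by
      show d (s (u * u')) (t v) = d (s u) (t v) * d (s u') (t v)
      rw [hdyA (s (u * u')) (hs _ (D.V.mul_mem hu hu')) (s u * s u')
        ((layer A).mul_mem (hs u hu) (hs u' hu'))
        (by rw [hsψ _ (D.V.mul_mem hu hu'), hψmul _ (hs u hu) _ (hs u' hu'), hsψ u hu, hsψ u' hu'])
        _ (ht v hv)]
      have hv' := hdV _ (hs u' hu') _ (ht v hv)
      calc d (s u * s u') (t v) = s u * d (s u') (t v) * (t v * (s u)⁻¹ * (t v)⁻¹) := by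
            simp only [d]; group
        _ = d (s u') (t v) * d (s u) (t v) := by rw [D.V_central hv' (s u)]; simp only [d]; group
        _ = _ := (D.V_central hv' _).symm)
    (fun u hu v hv v' hv' => by
      show d (s u) (t (v * v')) = d (s u) (t v) * d (s u) (t v')
      rw [← hdmul _ _ (ht v hv) _ (ht v' hv')]
      refine hdb _ (hs u hu) _ (ht _ (D.V.mul_mem hv hv')) _ (A.mul_mem (ht v hv) (ht v' hv')) ?_
      rw [htv _ (D.V.mul_mem hv hv'),
        (show Commute (t v) (t v') from h.comm _ (ht v hv) _ (ht v' hv')).mul_pow, htv v hv, htv v' hv'])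
    (fun k u hu v hv => by
      show d (s _) (t _) = (k : MulAut P) (d (s u) (t v))
      have e1 := hdyA _ (hs _ (D.map_V _ hu)) _ (layer_stable h k (hs u hu))
        (by rw [hψk, hsψ u hu, hsψ _ (D.map_V _ hu)]) (t ((k : MulAut P) v)) (ht _ (D.map_V _ hv))
      rw [e1, hdb _ (layer_stable h k (hs u hu)) _ (ht _ (D.map_V _ hv)) ((k : MulAut P) (t v))
        (h.stable k _ (ht v hv)) (by rw [← map_pow, htv v hv, htv _ (D.map_V _ hv)])]
      simp only [d, map_mul, map_inv])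
    (fun u hu => by
      have hsA := (mem_layer.1 (hs u hu)).1
      show d (s u) (t u) = 1
      rw [hdb _ (hs u hu) _ (ht u hu) _ hsA (by rw [htv u hu]; exact (hsψ u hu).symm)]
      simp only [d]; group)
  refine hψne ?_
  have hzero : ∀ a ∈ A, y0 * a = a * y0 := fun a ha => by
    have e1 := hdyA y0 hy0 (s (ψ y0)) (hs _ (hψV _ hy0)) (hsψ _ (hψV _ hy0)).symm a ha
    have e2 := hdb _ (hs _ (hψV _ hy0)) a ha _ (ht _ (hh.pow_mem_V ha))
      (htv _ (hh.pow_mem_V ha)).symm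
    have e3 : d y0 a = 1 := by
      rw [e1, e2]; exact htriv _ (hψV _ hy0) _ (hh.pow_mem_V ha)
    simp only [d, mul_inv_eq_one] at e3
    exact mul_inv_eq_iff_eq_mul.1 e3
  exact absurd (centralizing_mem h hmax hh (by omega) hy0 hzero) hy0A


/-- Central elements square to one. -/
theorem center_sq (D : Datum P) (hna : ∃ x y : P, x * y ≠ y * x) :
    ∀ z ∈ Subgroup.center P, z * z = 1 := by
  classical
  by_contra hz0
  push_neg at hz0
  obtain ⟨z0, hz0c, hz0⟩ := hz0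
  -- every involution is a central square
  obtain ⟨z1, hz1c, hz1, hz1'⟩ : ∃ z ∈ Subgroup.center P, z * z ≠ 1 ∧ z * z * (z * z) = 1 := by
    obtain ⟨n, hn⟩ := D.isp z0
    have hex : ∃ m, z0 ^ 2 ^ (m + 1) = 1 := ⟨n, by rw [pow_succ, pow_mul, hn, one_pow]⟩
    have hm := Nat.find_spec hex
    have hm0 : 1 ≤ Nat.find hex := by
      by_contra h0
      rw [show Nat.find hex = 0 by omega, zero_add, pow_one, pow_two] at hm
      exact hz0 hm
    refine ⟨z0 ^ 2 ^ (Nat.find hex - 1), pow_mem hz0c _, fun e => ?_, ?_⟩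
    · refine Nat.find_min hex (show Nat.find hex - 1 < Nat.find hex by omega) ?_
      rw [pow_succ, pow_mul, pow_two, e]
    · rw [← pow_add, ← pow_add]
      refine Eq.trans ?_ hm
      congr 1
      obtain ⟨m, hm'⟩ : ∃ m, Nat.find hex = m + 1 := ⟨Nat.find hex - 1, by omega⟩
      rw [hm', Nat.add_sub_cancel, pow_succ, pow_succ]
      ring
  have hsqC : ∀ v ∈ D.V, ∃ z ∈ Subgroup.center P, z * z = v := fun v hv => by
    rcases eq_or_ne v 1 with rfl | hv1
    · exact ⟨1, one_mem _, one_mul 1⟩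
    obtain ⟨k, hk⟩ := D.exists_k (D.mem_V.2 hz1') hz1 hv hv1
    refine ⟨(k : MulAut P) z1, Subgroup.mem_center_iff.2 fun g => ?_, by rw [← map_mul, hk]⟩
    obtain ⟨g, rfl⟩ := (k : MulAut P).surjective g
    rw [← map_mul, ← map_mul, Subgroup.mem_center_iff.1 hz1c g]
  have hfour : ∀ a : P, a ^ 4 = 1 → a ∈ Subgroup.center P := fun a ha => by
    obtain ⟨z, hz, hz2⟩ := hsqC (a * a) (D.mem_V.2 (by rw [← ha, pow_succ, pow_succ, pow_two]; group))
    have hc := Subgroup.mem_center_iff.1 (inv_mem hz) a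
    have hv : a * z⁻¹ ∈ D.V := by
      rw [D.mem_V]
      calc a * z⁻¹ * (a * z⁻¹) = a * (z⁻¹ * a) * z⁻¹ := by group
        _ = a * (a * z⁻¹) * z⁻¹ := by rw [hc]
        _ = (a * a) * (z * z)⁻¹ := by group
        _ = 1 := by rw [hz2, mul_inv_cancel]
    have := mul_mem (D.involution_central hv) hz
    rwa [inv_mul_cancel_right] at this
  have hS : D.Inv (Subgroup.center P) :=
    ⟨fun a ha b _ => (Subgroup.mem_center_iff.1 ha b).symm, fun k a ha => Subgroup.mem_center_iff.2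
      fun g => by
        obtain ⟨g, rfl⟩ := (k : MulAut P).surjective g
        rw [← map_mul, ← map_mul, Subgroup.mem_center_iff.1 ha g],
      inferInstance, fun v hv => D.involution_central hv⟩
  obtain ⟨A, h, hZA, hmax⟩ := exists_maximal_inv _ hS
  obtain ⟨f, hh⟩ := h.exists_homo
  haveI := h.normal
  have htop : A ≠ ⊤ := fun e => by
    obtain ⟨x, y, hxy⟩ := hna
    exact hxy (h.comm x (e ▸ Subgroup.mem_top x) y (e ▸ Subgroup.mem_top y))
  obtain ⟨y0, hy0, hy0A⟩ := exists_layer_not_mem D.isp htop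
  have hlt : f ≤ 2 := exponent_le_four h hmax hh htop
  have hAc : ∀ a ∈ A, a ∈ Subgroup.center P := fun a ha => hfour a (by
    have := hh.exp a ha
    rw [show (4 : ℕ) = 2 ^ f * 2 ^ (2 - f) by
      rw [← pow_add, show f + (2 - f) = 2 by omega]; norm_num, pow_mul, this, one_pow])
  have hf2 : 2 ≤ f := by
    by_contra h1
    have := hh.exp z0 (hZA hz0c)
    rw [show f = 1 by have := hh.pos; omega, pow_one, pow_two] at this
    exact hz0 this
  exact hy0A (centralizing_mem h hmax hh hf2 hy0 fun a ha =>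
    Subgroup.mem_center_iff.1 (hAc a ha) y0)

theorem mem_center_iff (D : Datum P) (hna : ∃ x y : P, x * y ≠ y * x) (x : P) :
    x ∈ Subgroup.center P ↔ x * x = 1 :=
  ⟨center_sq D hna x, D.involution_central⟩

end Cfsg.Agent.Suzuki2.Datum
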