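/-
Finite fields of characteristic two: products of two automorphisms, separation of the characters
`μ ↦ μ / φ μ`, and transitivity of isotropy for equivariant alternating maps.
-/
import Cfsg.Agent.Lib.RankOne.FieldMaps
import Mathlib.FieldTheory.Normal.Basic
import Mathlib.FieldTheory.Minpoly.Field

set_option autoImplicit false

namespace Cfsg.Agent.Suzuki2

open Cfsg.Agent.RankOne

variable {F : Type*} [Field F] [Fintype F] [CharP F 2]

theorem two_products_aux {a b c d : F ≃+* F} (hab : a ≠ b)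
    (h : ∀ x : F, a x * b x = c x * d x) : (a = c ∧ b = d) ∨ (a = d ∧ b = c) := by
  classical
  haveI := Fintype.ofFinite (F ≃+* F)
  have hpol : ∀ x y : F, a x * b y + a y * b x = c x * d y + c y * d x := fun x y => by
    have e := h (x + y)
    simp only [map_add] at e
    linear_combination e - h x - h y
  have key : ∀ y : F, ∀ σ : F ≃+* F,
      (if σ = a then b y else 0) + (if σ = b then a y else 0) =
        (if σ = c then d y else 0) + (if σ = d then c y else 0) := fun y σ => by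
    refine congrFun (FieldMaps.combo_injective
      (a₁ := fun σ => (if σ = a then b y else 0) + (if σ = b then a y else 0))
      (a₂ := fun σ => (if σ = c then d y else 0) + (if σ = d then c y else 0))
      (AddMonoidHom.ext fun x => ?_)) σ
    rw [FieldMaps.combo_apply, FieldMaps.combo_apply]
    simp only [add_mul, Finset.sum_add_distrib, ite_mul, zero_mul, Finset.sum_ite_eq',
      Finset.mem_univ, if_true]
    linear_combination hpol x y
  have hk : ∀ y, b y = (if a = c then d y else 0) + (if a = d then c y else 0) := fun y => by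
    have e := key y a
    rwa [if_pos rfl, if_neg hab, add_zero] at e
  by_cases h1 : a = c <;> by_cases h2 : a = d
  · exfalso
    have e := hk 1
    rw [if_pos h1, if_pos h2, map_one, map_one, map_one, CharTwo.add_self_eq_zero] at e
    exact one_ne_zero e
  · refine Or.inl ⟨h1, RingEquiv.ext fun y => ?_⟩
    rw [hk y, if_pos h1, if_neg h2, add_zero]
  · refine Or.inr ⟨h2, RingEquiv.ext fun y => ?_⟩
    rw [hk y, if_neg h1, if_pos h2, zero_add]
  · exfalso
    have e := hk 1
    rw [if_neg h1, if_neg h2, add_zero, map_one] at e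
    exact one_ne_zero e

/-- A product of two automorphisms determines them. -/
theorem two_products {a b c d : F ≃+* F} (h : ∀ x : F, a x * b x = c x * d x) :
    (a = c ∧ b = d) ∨ (a = d ∧ b = c) := by
  by_cases hab : a = b
  · by_cases hcd : c = d
    · subst hab hcd
      have : a = c := RingEquiv.ext fun x => CharTwo.sq_injective (by
        show a x ^ 2 = c x ^ 2
        rw [pow_two, pow_two]; exact h x)
      exact Or.inl ⟨this, this⟩
    · rcases two_products_aux hcd (fun x => (h x).symm) with ⟨h1, h2⟩ | ⟨h1, h2⟩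
      · exact Or.inl ⟨h1.symm, h2.symm⟩
      · exact Or.inr ⟨h2.symm, h1.symm⟩
  · exact two_products_aux hab h

omit [Fintype F] [CharP F 2] in
theorem chi_eq_imp {θ φ ψ : F ≃+* F} (h : ∀ μ : F, μ ≠ 0 → θ (μ * (φ μ)⁻¹) = μ * (ψ μ)⁻¹) :
    ∀ x : F, θ x * ψ x = x * θ (φ x) := by
  intro x
  rcases eq_or_ne x 0 with rfl | hx
  · simp
  · have e := h x hx
    rw [map_mul, map_inv₀, ← div_eq_mul_inv, ← div_eq_mul_inv,
      div_eq_div_iff (by simpa using hx) (by simpa using hx)] at e
    exact e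

/-- The characters `μ ↦ μ / φ μ` of distinct nontrivial automorphisms can be separated by a
polynomial. -/
theorem exists_separating {φ ψ : F ≃+* F} (hφ : φ ≠ RingEquiv.refl F) (hne : φ ≠ ψ) :
    ∃ (μ : Fˣ) (p : Polynomial (ZMod 2)),
      letI := ZMod.algebra F 2
      Polynomial.aeval ((μ : F) * (ψ μ)⁻¹) p ≠ 0 ∧ Polynomial.aeval ((μ : F) * (φ μ)⁻¹) p = 0 := by
  classical
  haveI : Fact (Nat.Prime 2) := ⟨Nat.prime_two⟩
  letI := ZMod.algebra F 2
  obtain ⟨g, hg⟩ := IsCyclic.exists_generator (α := Fˣ)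
  refine ⟨g, minpoly (ZMod 2) ((g : F) * (φ g)⁻¹), fun h0 => ?_, minpoly.aeval _ _⟩
  obtain ⟨θ, hθ⟩ := minpoly.exists_algEquiv_of_root' (Algebra.IsAlgebraic.isAlgebraic _) h0
  have hall : ∀ μ : F, μ ≠ 0 → θ.toRingEquiv (μ * (φ μ)⁻¹) = μ * (ψ μ)⁻¹ := by
    intro μ hμ
    obtain ⟨k, hk⟩ := Subgroup.mem_zpowers_iff.1 (hg (Units.mk0 μ hμ))
    have hμk : μ = (g : F) ^ k := by
      rw [← Units.val_zpow_eq_zpow_val, hk]; rfl
    have hθ' : θ.toRingEquiv ((g : F) * (φ g)⁻¹) = (g : F) * (ψ g)⁻¹ := hθ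
    rw [hμk, map_zpow₀, map_zpow₀, ← inv_zpow, ← mul_zpow, ← inv_zpow, ← mul_zpow, map_zpow₀, hθ']
  rcases two_products (a := θ.toRingEquiv) (b := ψ) (c := RingEquiv.refl F)
      (d := φ.trans θ.toRingEquiv) (chi_eq_imp hall) with ⟨h1, h2⟩ | ⟨h1, h2⟩
  · apply hne
    refine RingEquiv.ext fun x => ?_
    have e := RingEquiv.congr_fun h2 x
    rw [RingEquiv.trans_apply, RingEquiv.congr_fun h1 (φ x)] at e
    exact e.symm
  · apply hφ
    refine RingEquiv.ext fun x => θ.toRingEquiv.injective ?_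
    exact (RingEquiv.congr_fun h1 x).symm

/-- An alternating biadditive map commuting with scalars has transitive isotropy. -/
theorem isotropy_trans (B : F →+ F →+ F) (halt : ∀ u, B u u = 0) (hB : ∃ u v, B u v ≠ 0)
    (hequ : ∀ ν : Fˣ, ∃ s : F, ∀ u v, B ((ν : F) * u) ((ν : F) * v) = s * B u v)
    {d d' d'' : F} (hd : d ≠ 0) (h1 : B d d' = 0) (h2 : B d d'' = 0) : B d' d'' = 0 := by
  classical
  haveI := Fintype.ofFinite (F ≃+* F)
  obtain ⟨C, hC⟩ := FieldMaps.exists_bicombo B
  choose s hs using hequ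
  have huniq : ∀ C₁ C₂ : (F ≃+* F) × (F ≃+* F) → F,
      (∀ x y : F, ∑ p, C₁ p * (p.1 x * p.2 y) = ∑ p, C₂ p * (p.1 x * p.2 y)) → C₁ = C₂ := by
    intro C₁ C₂ h
    funext ⟨σ, τ⟩
    have e1 : ∀ x τ, ∑ σ, C₁ (σ, τ) * σ x = ∑ σ, C₂ (σ, τ) * σ x := fun x τ => by
      refine congrFun (FieldMaps.combo_injective (a₁ := fun τ => ∑ σ, C₁ (σ, τ) * σ x)
        (a₂ := fun τ => ∑ σ, C₂ (σ, τ) * σ x) (AddMonoidHom.ext fun y => ?_)) τ
      rw [FieldMaps.combo_apply, FieldMaps.combo_apply]
      have e' : ∀ C : (F ≃+* F) × (F ≃+* F) → F,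
          (∑ p, C p * (p.1 x * p.2 y)) = ∑ τ, (∑ σ, C (σ, τ) * σ x) * τ y := fun C => by
        rw [Fintype.sum_prod_type, Finset.sum_comm]
        refine Finset.sum_congr rfl fun τ _ => ?_
        rw [Finset.sum_mul]
        exact Finset.sum_congr rfl fun σ _ => by ring
      rw [← e', ← e']
      exact h x y
    exact congrFun (FieldMaps.combo_injective (a₁ := fun σ => C₁ (σ, τ))
      (a₂ := fun σ => C₂ (σ, τ)) (AddMonoidHom.ext fun x => by
        rw [FieldMaps.combo_apply, FieldMaps.combo_apply]; exact e1 x τ)) σ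
  have hfun : ∀ p, C p ≠ 0 → ∀ ν : Fˣ, p.1 (ν : F) * p.2 (ν : F) = s ν := fun p hp ν => by
    have e := congrFun (huniq (fun p => C p * (p.1 (ν : F) * p.2 (ν : F))) (fun p => s ν * C p)
      fun x y => by
        calc ∑ p, C p * (p.1 (ν : F) * p.2 (ν : F)) * (p.1 x * p.2 y)
            = B ((ν : F) * x) ((ν : F) * y) := by
              rw [hC]; exact Finset.sum_congr rfl fun p _ => by rw [map_mul, map_mul]; ring
          _ = _ := by
              rw [hs ν, hC, Finset.mul_sum]
              exact Finset.sum_congr rfl fun p _ => by ring) p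
    exact mul_left_cancel₀ hp (e.trans (mul_comm _ _))
  obtain ⟨⟨σ, τ⟩, hp⟩ : ∃ p, C p ≠ 0 := by
    by_contra! h
    obtain ⟨u, v, huv⟩ := hB
    exact huv (by rw [hC]; simp [h])
  have hsupp : ∀ p, p ≠ (σ, τ) → p ≠ (τ, σ) → C p = 0 := by
    intro p hne1 hne2
    by_contra hp'
    rcases two_products (a := p.1) (b := p.2) (c := σ) (d := τ) (fun x => by
      rcases eq_or_ne x 0 with rfl | hx
      · simp
      · exact (hfun p hp' (Units.mk0 x hx)).trans (hfun _ hp (Units.mk0 x hx)).symm) with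
      ⟨e1, e2⟩ | ⟨e1, e2⟩
    · exact hne1 (Prod.ext e1 e2)
    · exact hne2 (Prod.ext e1 e2)
  have hστ : σ ≠ τ := by
    rintro rfl
    have e := halt 1
    rw [hC, Finset.sum_eq_single (σ, σ) (fun p _ hne => by rw [hsupp p hne hne, zero_mul])
      (by simp), map_one, mul_one, mul_one] at e
    exact hp e
  have hBeq : ∀ u v, B u v = C (σ, τ) * (σ u * τ v) + C (τ, σ) * (τ u * σ v) := by
    intro u v
    rw [hC, ← Finset.sum_pair (f := fun p : (F ≃+* F) × (F ≃+* F) => C p * (p.1 u * p.2 v))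
      (show (σ, τ) ≠ (τ, σ) from fun e => hστ (congrArg Prod.fst e))]
    refine (Finset.sum_subset (Finset.subset_univ _) fun p _ hp' => ?_).symm
    simp only [Finset.mem_insert, Finset.mem_singleton, not_or] at hp'
    rw [hsupp p hp'.1 hp'.2, zero_mul]
  have hsymm : C (τ, σ) = C (σ, τ) := by
    have e := halt 1
    rw [hBeq, map_one, map_one, mul_one, mul_one, mul_one] at e
    exact (CharTwo.add_eq_zero.1 e).symm
  simp only [hBeq, hsymm, ← mul_add, mul_eq_zero, hp, false_or] at h1 h2 ⊢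
  refine (mul_eq_zero.1 (?_ : σ d * τ d * (σ d' * τ d'' + τ d' * σ d'') = 0)).resolve_left
    (mul_ne_zero (by simpa using hd) (by simpa using hd))
  linear_combination σ d * τ d'' * h1 + (-(σ d * τ d')) * h2 +
    (σ d * τ d * τ d' * σ d'') * (CharTwo.two_eq_zero (R := F))

end Cfsg.Agent.Suzuki2
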