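/-
Higman: no third layer when the involutions form a maximal abelian normal invariant subgroup.
-/
import Cfsg.Agent.Lib.Suzuki2.Center
import Cfsg.Agent.Lib.Suzuki2.FieldTools

set_option autoImplicit false

namespace Cfsg.Agent.Suzuki2.Datum

open Subgroup

universe u

variable {P : Type u} [Group P] [Finite P] {D : Datum P}

theorem V_normal : D.V.Normal := ⟨fun a ha g => by rw [conj_fix ha]; exact ha⟩

theorem V_inv : D.Inv D.V :=
  ⟨fun a _ b hb => D.V_central hb a, fun k a ha => D.map_V _ ha, V_normal, le_rfl⟩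

theorem two_le_card_K : 2 ≤ Nat.card D.K := by
  obtain ⟨u, v, huv, hu, hu2, hv, hv2⟩ := D.two
  obtain ⟨k, hk⟩ := (D.reg u v hu hu2 hv hv2).exists
  haveI : Nontrivial D.K := ⟨⟨k, 1, fun e => huv (by rw [← hk, e]; rfl)⟩⟩
  exact Finite.one_lt_card

theorem comm_mem_of_layer {N : Subgroup P} [N.Normal] {z : P} (hz : z ∈ layer N) (g : P) :
    g * z * g⁻¹ * z⁻¹ ∈ N := (mem_layer.1 hz).2 g

theorem layer_normal {N : Subgroup P} [N.Normal] (hN : N ≤ layer N) : (layer N).Normal := ⟨fun z hz g => by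
  have := (layer N).mul_mem (hN (comm_mem_of_layer hz g)) hz
  rwa [inv_mul_cancel_right] at this⟩

theorem le_layer {N : Subgroup P} [N.Normal] : N ≤ layer N := fun a ha =>
  mem_layer.2 ⟨N.mul_mem ha ha, fun g => N.mul_mem (‹N.Normal›.conj_mem a ha g) (N.inv_mem ha)⟩

theorem layer_map_stable {N : Subgroup P} [N.Normal]
    (hN : ∀ k : D.K, ∀ a ∈ N, (k : MulAut P) a ∈ N) (k : D.K) {y : P} (hy : y ∈ layer N) :
    (k : MulAut P) y ∈ layer N := by
  rw [mem_layer] at hy ⊢
  refine ⟨by rw [← map_mul]; exact hN k _ hy.1, fun g => ?_⟩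
  obtain ⟨g, rfl⟩ := (k : MulAut P).surjective g
  rw [← map_inv, ← map_inv, ← map_mul, ← map_mul, ← map_mul]
  exact hN k _ (hy.2 g)

instance instVNormal : D.V.Normal := V_normal

/-- If the second layer has order `q ^ 2`, commuting is transitive outside the involutions. -/
theorem commute_trans (hmax : ∀ B, D.Inv B → B = D.V)
    (h2 : Nat.card (layer D.V) = Nat.card D.V * Nat.card D.V)
    {a b c : P} (ha : a ∈ layer D.V) (hb : b ∈ layer D.V) (hc : c ∈ layer D.V) (haV : a ∉ D.V)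
    (hab : a * b = b * a) (hac : a * c = c * a) : b * c = c * b := by
  classical
  set L := layer D.V with hL
  have hcomV : ∀ x ∈ L, ∀ y ∈ L, x * y * x⁻¹ * y⁻¹ ∈ D.V := fun x _ y hy =>
    comm_mem_of_layer hy x
  have hLK : ∀ k : D.K, ∀ x ∈ L, (k : MulAut P) x ∈ L := fun k x hx =>
    layer_map_stable (fun k a ha => D.map_V _ ha) k hx
  set N := D.V.subgroupOf L with hN
  haveI : N.Normal := inferInstanceAs (D.V.subgroupOf L).Normal
  have hNmem : ∀ x : L, x ∈ N ↔ (x : P) ∈ D.V := fun x => Iff.rfl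
  have hNk : ∀ (k : D.K) (x y : L), (x : L ⧸ N) = (y : L ⧸ N) →
      ((⟨(k : MulAut P) x, hLK k x x.2⟩ : L) : L ⧸ N) = (⟨(k : MulAut P) y, hLK k y y.2⟩ : L) := by
    intro k x y h
    rw [QuotientGroup.eq, hNmem] at h ⊢
    show ((k : MulAut P) x)⁻¹ * (k : MulAut P) y ∈ D.V
    rw [← map_inv, ← map_mul]
    exact D.map_V _ h
  letI : CommGroup (L ⧸ N) :=
    { (inferInstance : Group (L ⧸ N)) with
      mul_comm := fun x y => by
        obtain ⟨x, rfl⟩ := QuotientGroup.mk_surjective x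
        obtain ⟨y, rfl⟩ := QuotientGroup.mk_surjective y
        rw [← QuotientGroup.mk_mul, ← QuotientGroup.mk_mul, QuotientGroup.eq, hNmem]
        show ((x : P) * y)⁻¹ * (y * x) ∈ D.V
        rw [show ((x : P) * y)⁻¹ * (y * x) =
          (y : P)⁻¹ * (x : P)⁻¹ * (y : P)⁻¹⁻¹ * (x : P)⁻¹⁻¹ by group]
        exact hcomV _ (L.inv_mem y.2) _ (L.inv_mem x.2) }
  let act : D.K → L ⧸ N → L ⧸ N := fun k => Quotient.lift
    (fun x : L => ((⟨(k : MulAut P) x, hLK k x x.2⟩ : L) : L ⧸ N))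
    (fun x y h => hNk k x y (Quotient.sound h))
  have hactmk : ∀ (k : D.K) (x : L), act k (x : L ⧸ N) = (⟨(k : MulAut P) x, hLK k x x.2⟩ : L) :=
    fun k x => rfl
  have hactmul : ∀ (k : D.K) (x y : L ⧸ N), act k (x * y) = act k x * act k y := by
    intro k x y
    obtain ⟨x, rfl⟩ := QuotientGroup.mk_surjective x
    obtain ⟨y, rfl⟩ := QuotientGroup.mk_surjective y
    rw [← QuotientGroup.mk_mul, hactmk, hactmk, hactmk, ← QuotientGroup.mk_mul]
    exact congrArg _ (Subtype.ext (map_mul (k : MulAut P) (x : P) y))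
  have hcardU : Nat.card (L ⧸ N) = Nat.card D.V := by
    have h := Subgroup.card_eq_card_quotient_mul_card_subgroup N
    rw [h2, show Nat.card N = Nat.card D.V from
      Nat.card_congr (Subgroup.subgroupOfEquivOfLe le_layer).toEquiv] at h
    exact (Nat.eq_of_mul_eq_mul_right Nat.card_pos h).symm
  have hact1 : ∀ (k : D.K), act k 1 = 1 := fun k => by
    have e := hactmul k 1 1
    rw [one_mul] at e
    exact left_eq_mul.1 e
  have hreg : ∀ x y : L ⧸ N, x ≠ 1 → y ≠ 1 → ∃! k, act k x = y := by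
    intro x y hx hy
    obtain ⟨x, rfl⟩ := QuotientGroup.mk_surjective x
    have hinj : Function.Injective (fun k => act k (x : L ⧸ N)) := by
      intro k l e
      by_contra hne
      simp only [hactmk] at e
      rw [QuotientGroup.eq, hNmem] at e
      have hx' : (x : P) ∉ D.V := fun h => hx ((QuotientGroup.eq_one_iff x).2 h)
      refine hx' ?_
      have h3 := D.free_section (N := D.V) (fun k a ha => D.map_V _ ha) (k := l * k⁻¹)
        (fun h => hne (mul_inv_eq_one.1 h).symm) (x := (k : MulAut P) x) (by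
          have e2 : ((l * k⁻¹ : D.K) : MulAut P) ((k : MulAut P) x) = (l : MulAut P) x := by
            show (l : MulAut P) (((k⁻¹ * k : D.K) : MulAut P) x) = _
            rw [inv_mul_cancel]; rfl
          rw [e2]; exact e)
      have := D.map_V ((k⁻¹ : D.K) : MulAut P) h3
      simpa using this
    have hne : ∀ k, act k (x : L ⧸ N) ≠ 1 := fun k e => by
      rw [hactmk, QuotientGroup.eq_one_iff, hNmem] at e
      refine hx ((QuotientGroup.eq_one_iff x).2 ?_)
      have := D.map_V ((k⁻¹ : D.K) : MulAut P) e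
      show (x : P) ∈ D.V
      simpa using this
    haveI : Fintype (L ⧸ N) := Fintype.ofFinite _
    haveI : Fintype D.K := Fintype.ofFinite _
    have hbij : Function.Bijective (fun k => (⟨act k (x : L ⧸ N), hne k⟩ : {z : L ⧸ N // z ≠ 1})) := by
      rw [Fintype.bijective_iff_injective_and_card]
      refine ⟨fun k l e => hinj (congrArg Subtype.val e), ?_⟩
      rw [Fintype.card_subtype_compl, Fintype.card_subtype_eq, ← Nat.card_eq_fintype_card,
        ← Nat.card_eq_fintype_card, hcardU, ← D.card_K_add_one, Nat.add_sub_cancel]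
    obtain ⟨k, hk⟩ := hbij.2 ⟨y, hy⟩
    exact ⟨k, congrArg Subtype.val hk, fun l hl => hinj (hl.trans (congrArg Subtype.val hk).symm)⟩
  have haN : ((⟨a, ha⟩ : L) : L ⧸ N) ≠ 1 := fun e => haV ((hNmem _).1 ((QuotientGroup.eq_one_iff _).1 e))
  obtain ⟨F', _, _, _, e, g, hg⟩ := exists_field (U := Additive (L ⧸ N)) (K := D.K)
    (fun k u => Additive.ofMul (act k u.toMul))
    (fun u => by
      obtain ⟨x, hx⟩ := QuotientGroup.mk_surjective u.toMul
      refine Additive.toMul.injective ?_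
      show act 1 u.toMul = u.toMul
      rw [← hx, hactmk]; rfl)
    (fun k l u => by
      obtain ⟨x, hx⟩ := QuotientGroup.mk_surjective u.toMul
      show Additive.ofMul (act (k * l) u.toMul) = Additive.ofMul (act k (act l u.toMul))
      rw [← hx, hactmk, hactmk, hactmk]; rfl)
    (fun k u w => congrArg Additive.ofMul (hactmul k u.toMul w.toMul))
    (fun u => by
      obtain ⟨x, hx⟩ := QuotientGroup.mk_surjective u.toMul
      refine Additive.toMul.injective ?_
      show u.toMul * u.toMul = 1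
      rw [← hx, ← QuotientGroup.mk_mul, QuotientGroup.eq_one_iff, hNmem]
      exact (mem_layer.1 x.2).1)
    D.comm
    (fun u w hu hw => by
      obtain ⟨k, hk, hk'⟩ := hreg u.toMul w.toMul (fun e => hu (Additive.toMul.injective e))
        (fun e => hw (Additive.toMul.injective e))
      exact ⟨k, congrArg Additive.ofMul hk, fun l hl => hk' l (congrArg Additive.toMul hl)⟩)
    ⟨Additive.ofMul ((⟨a, ha⟩ : L) : L ⧸ N), fun e => haN (congrArg Additive.toMul e)⟩
  obtain ⟨F, _, _, _, ⟨C⟩, hF⟩ := exists_coord D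
  have hcard : Fintype.card F = Fintype.card F' := by
    rw [← Nat.card_eq_fintype_card, ← Nat.card_eq_fintype_card, hF, ← hcardU]
    exact Nat.card_congr (Additive.ofMul.trans e.toEquiv)
  let ι := FiniteField.ringEquivOfCardEq (K := F) (K' := F') hcard
  let br : P → P → F' := fun x y => ι (C.co (x * y * x⁻¹ * y⁻¹))
  have hbl : ∀ x ∈ L, ∀ x' ∈ L, ∀ y ∈ L, br (x * x') y = br x y + br x' y := by
    intro x hx x' hx' y hy
    have e1 : x * x' * y * (x * x')⁻¹ * y⁻¹ =
        (x * y * x⁻¹ * y⁻¹) * (x' * y * x'⁻¹ * y⁻¹) := by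
      calc x * x' * y * (x * x')⁻¹ * y⁻¹ = x * (x' * y * x'⁻¹ * y⁻¹) * (y * x⁻¹ * y⁻¹) := by group
        _ = (x' * y * x'⁻¹ * y⁻¹) * (x * y * x⁻¹ * y⁻¹) := by
          rw [D.V_central (hcomV x' hx' y hy) x]; group
        _ = _ := (D.V_central (hcomV x' hx' y hy) _).symm
    show ι _ = ι _ + ι _
    rw [e1, C.co_mul _ (hcomV x hx y hy) _ (hcomV x' hx' y hy), map_add]
  have hbs : ∀ x ∈ L, ∀ y ∈ L, br x y = br y x := by
    intro x hx y hy
    show ι _ = ι _
    refine congrArg (fun v => ι (C.co v)) ?_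
    rw [show x * y * x⁻¹ * y⁻¹ = (y * x * y⁻¹ * x⁻¹)⁻¹ by group]
    exact inv_eq_of_mul_eq_one_right (D.mem_V.1 (hcomV y hy x hx))
  have hbN : ∀ x ∈ D.V, ∀ y, br x y = 0 := fun x hx y => by
    show ι _ = 0
    rw [← D.V_central hx y, mul_inv_cancel_right, mul_inv_cancel, C.co_one, map_zero]
  have hbq : ∀ x x' y : L, (x : L ⧸ N) = x' → br x y = br x' y := by
    intro x x' y h
    rw [QuotientGroup.eq, hNmem] at h
    have h' : (x : P)⁻¹ * x' ∈ D.V := h
    rw [show (x' : P) = x * ((x : P)⁻¹ * x') by group, hbl _ x.2 _ (le_layer h') _ y.2,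
      hbN _ h', add_zero]
  let pre : F' → L := fun u => (Additive.toMul (e.symm u) : L ⧸ N).out
  have hpre : ∀ u, ((pre u : L) : L ⧸ N) = Additive.toMul (e.symm u) := fun u => QuotientGroup.out_eq' _
  have hadd : ∀ u u' v, br (pre (u + u')) (pre v) = br (pre u) (pre v) + br (pre u') (pre v) := by
    intro u u' v
    rw [← hbl _ (pre u).2 _ (pre u').2 _ (pre v).2, ← Subgroup.coe_mul]
    refine hbq _ _ _ ?_
    rw [QuotientGroup.mk_mul, hpre, hpre, hpre, map_add, toMul_add]
  have hadd' : ∀ u v v', br (pre u) (pre (v + v')) = br (pre u) (pre v) + br (pre u) (pre v') := by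
    intro u v v'
    rw [hbs _ (pre u).2 _ (pre (v + v')).2, hadd, hbs _ (pre v).2 _ (pre u).2,
      hbs _ (pre v').2 _ (pre u).2]
  let B : F' →+ F' →+ F' := AddMonoidHom.mk' (fun u => AddMonoidHom.mk' (fun v => br (pre u) (pre v))
    (hadd' u)) (fun u u' => AddMonoidHom.ext fun v => hadd u u' v)
  let img : ∀ x, x ∈ L → F' := fun x hx => e (Additive.ofMul ((⟨x, hx⟩ : L) : L ⧸ N))
  have himg : ∀ x (hx : x ∈ L) y (hy : y ∈ L), B (img x hx) (img y hy) = br x y := by
    intro x hx y hy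
    have e1 : ((pre (img x hx) : L) : L ⧸ N) = (⟨x, hx⟩ : L) := by
      rw [hpre]; simp [img]
    have e2 : ((pre (img y hy) : L) : L ⧸ N) = (⟨y, hy⟩ : L) := by
      rw [hpre]; simp [img]
    show br (pre (img x hx)) (pre (img y hy)) = _
    rw [hbq _ _ _ e1, hbs _ hx _ (pre (img y hy)).2, hbq _ _ ⟨x, hx⟩ e2, hbs _ hy _ hx]
  have hbr : ∀ x ∈ L, ∀ y ∈ L, br x y = 0 ↔ x * y = y * x := by
    intro x hx y hy
    constructor
    · intro h
      have h' := C.co_eq_zero (hcomV x hx y hy) ((map_eq_zero_iff ι ι.injective).1 h)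
      exact mul_inv_eq_iff_eq_mul.1 (mul_inv_eq_one.1 h')
    · intro h
      show ι _ = 0
      rw [h, mul_inv_cancel_right, mul_inv_cancel, C.co_one, map_zero]
  have hd : img a ha ≠ 0 := fun h => haN (by
    have := (AddEquiv.map_eq_zero_iff e).1 h
    exact congrArg Additive.toMul this)
  have hBne : ∃ u v, B u v ≠ 0 := by
    by_contra! h
    have hcomm : ∀ x ∈ L, ∀ y ∈ L, x * y = y * x := fun x hx y hy =>
      (hbr x hx y hy).1 (by rw [← himg x hx y hy]; exact h _ _)
    exact haV ((hmax L ⟨hcomm, hLK, layer_normal le_layer, le_layer⟩) ▸ ha)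
  have hequ : ∀ ν : F'ˣ, ∃ s : F', ∀ u v, B ((ν : F') * u) ((ν : F') * v) = s * B u v := by
    intro ν
    obtain ⟨k, hk⟩ := g.surjective ν
    refine ⟨ι (C.μ k), fun u v => ?_⟩
    have hpk : ∀ u, (ν : F') * u = img ((k : MulAut P) (pre u)) (hLK k _ (pre u).2) := fun u => by
      show _ = e (Additive.ofMul _)
      rw [← hactmk, hpre, ← hk, hg, e.apply_symm_apply]
    rw [hpk u, hpk v, himg _ (hLK k _ (pre u).2) _ (hLK k _ (pre v).2)]
    show ι (C.co _) = ι _ * ι (C.co _)
    rw [← map_mul, ← map_inv, ← map_mul, ← map_inv, ← map_mul, ← map_mul,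
      C.co_k k _ (hcomV _ (pre u).2 _ (pre v).2)]
  have hres := isotropy_trans B (fun u => (hbr _ (pre u).2 _ (pre u).2).2 rfl) hBne hequ hd
    ((himg a ha b hb).trans ((hbr a ha b hb).2 hab)) ((himg a ha c hc).trans ((hbr a ha c hc).2 hac))
  exact (hbr b hb c hc).1 ((himg b hb c hc).symm.trans hres)

/-- If the involutions are maximal among abelian normal invariant subgroups then all squares are
involutions. -/
theorem sq_mem_of_max_eq (hmax : ∀ B, D.Inv B → B = D.V) (y : P) : y * y ∈ D.V := by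
  classical
  set L2 := layer D.V with hL2
  haveI hL2n : L2.Normal := layer_normal le_layer
  set L3 := layer L2 with hL3
  have hVK : ∀ k : D.K, ∀ a ∈ D.V, (k : MulAut P) a ∈ D.V := fun k a ha => D.map_V _ ha
  have hL2K : ∀ k : D.K, ∀ a ∈ L2, (k : MulAut P) a ∈ L2 := fun k a ha => layer_map_stable hVK k ha
  have hL3K : ∀ k : D.K, ∀ a ∈ L3, (k : MulAut P) a ∈ L3 := fun k a ha => layer_map_stable hL2K k ha
  have hVL2 : D.V ≤ L2 := le_layer
  have hcom2 : ∀ z ∈ L2, ∀ g, g * z * g⁻¹ * z⁻¹ ∈ D.V := fun z hz g => comm_mem_of_layer hz g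
  have hsq3 : ∀ x ∈ L3, x * x ∈ D.V := by
    intro x hx
    have hxx := (mem_layer.1 hx).1
    have hR : D.Inv (L2 ⊓ centralizer (L2 : Set P)) :=
      ⟨fun a ha b hb => (Subgroup.mem_centralizer_iff.1 (Subgroup.mem_inf.1 hb).2 a
          (Subgroup.mem_inf.1 ha).1),
        fun k a ha => Subgroup.mem_inf.2 ⟨hL2K k a (Subgroup.mem_inf.1 ha).1,
          Subgroup.mem_centralizer_iff.2 fun z hz => by
            obtain ⟨z', rfl⟩ := (k : MulAut P).surjective z
            have hz' : z' ∈ L2 := by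
              have := hL2K k⁻¹ _ hz
              simpa using this
            rw [← map_mul, ← map_mul,
              Subgroup.mem_centralizer_iff.1 (Subgroup.mem_inf.1 ha).2 z' hz']⟩,
        inferInstance, fun v hv => Subgroup.mem_inf.2 ⟨hVL2 hv,
          Subgroup.mem_centralizer_iff.2 fun z _ => D.V_central hv z⟩⟩
    rw [← hmax _ hR]
    refine Subgroup.mem_inf.2 ⟨hxx, Subgroup.mem_centralizer_iff.2 fun z hz => ?_⟩
    have hδ := hcom2 z hz x
    have e : x * x * z * (x * x)⁻¹ * z⁻¹ = 1 := by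
      calc x * x * z * (x * x)⁻¹ * z⁻¹
          = x * (x * z * x⁻¹ * z⁻¹) * (z * x⁻¹ * z⁻¹) := by group
        _ = (x * z * x⁻¹ * z⁻¹) * (x * z * x⁻¹ * z⁻¹) := by rw [D.V_central hδ x]; group
        _ = 1 := D.mem_V.1 hδ
    exact (mul_inv_eq_iff_eq_mul.1 (mul_inv_eq_one.1 e)).symm
  by_cases hL32 : L3 = L2
  · have htop : L2 = ⊤ := by
      by_contra hne
      obtain ⟨z, hz, hz2⟩ := exists_layer_not_mem (A := L2) D.isp hne
      exact hz2 (hL32 ▸ hz)
    exact (mem_layer.1 (htop ▸ Subgroup.mem_top y : y ∈ L2)).1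
  exfalso
  obtain ⟨x0, hx0, hx02⟩ := SetLike.exists_of_lt (lt_of_le_of_ne (le_layer : L2 ≤ L3) (Ne.symm hL32))
  have hqpos : 0 < Nat.card D.V := Nat.card_pos
  have hV2 : D.V ≠ L2 := fun e => by
    have htop : D.V = ⊤ := by
      by_contra hne
      obtain ⟨z, hz, hzV⟩ := exists_layer_not_mem (A := D.V) D.isp hne
      exact hzV (e.symm ▸ hz)
    exact hx02 (e ▸ htop.symm ▸ Subgroup.mem_top x0)
  obtain ⟨z0, hz0, hz0V⟩ := SetLike.exists_of_lt (lt_of_le_of_ne hVL2 hV2)
  have j2 := D.card_jump hVK hL2K hVL2 hz0 hz0V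
  have j3 := D.card_jump hL2K hL3K le_layer hx0 hx02
  rw [D.card_K_add_one] at j2 j3
  have hcube := D.card_le_cube (hVL2.trans le_layer) hsq3
  have hcard2 : Nat.card L2 = Nat.card D.V * Nat.card D.V := by
    refine le_antisymm (Nat.le_of_mul_le_mul_left ?_ hqpos) j2
    calc Nat.card D.V * Nat.card L2 ≤ Nat.card D.V ^ 3 := j3.trans hcube
      _ = _ := by ring
  have trans' : ∀ {a b c : P}, a ∈ L2 → b ∈ L2 → c ∈ L2 → a ∉ D.V →
      a * b = b * a → a * c = c * a → b * c = c * b := commute_trans hmax hcard2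
  obtain ⟨dd, hddef⟩ : ∃ dd : P → P → P, ∀ g x, dd g x = g * x * g⁻¹ * x⁻¹ := ⟨_, fun _ _ => rfl⟩
  have hdd : ∀ g, ∀ x ∈ L3, dd g x ∈ L2 := fun g x hx => by rw [hddef]; exact (mem_layer.1 hx).2 g
  have hinv : ∀ g, ∀ x ∈ L3, dd g x * x * dd g x * x⁻¹ = 1 := by
    intro g x hx
    have e : dd g x * x * (dd g x * x) = x * x := by
      calc dd g x * x * (dd g x * x) = g * (x * x) * g⁻¹ := by simp only [hddef]; group
        _ = x * x := conj_fix (hsq3 x hx) g
    calc dd g x * x * dd g x * x⁻¹ = dd g x * x * (dd g x * x) * (x * x)⁻¹ := by group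
      _ = 1 := by rw [e, mul_inv_cancel]
  have hmulL : ∀ g g', ∀ x ∈ L3, ∃ v ∈ D.V, dd (g * g') x = dd g' x * dd g x * v := by
    intro g g' x hx
    have hc := hcom2 _ (hdd g' x hx) g
    refine ⟨_, hc, ?_⟩
    rw [D.V_central hc]
    simp only [hddef]; group
  have hpair : ∀ g g', ∀ x ∈ L3, dd g x * dd g' x = dd g' x * dd g x := by
    intro g g' x hx
    obtain ⟨v, hv, he⟩ := hmulL g g' x hx
    have h0 := hinv (g * g') x hx
    rw [he] at h0
    have gen : ∀ a z : P, a * v * z * (a * v) * z⁻¹ = a * z * a * z⁻¹ := fun a z => by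
      calc a * v * z * (a * v) * z⁻¹ = a * (v * z) * a * (v * z⁻¹) := by group
        _ = a * (z * v) * a * (z⁻¹ * v) := by rw [D.V_central hv z, D.V_central hv z⁻¹]
        _ = a * z * (v * (a * z⁻¹)) * v := by group
        _ = a * z * (a * z⁻¹ * v) * v := by rw [D.V_central hv (a * z⁻¹)]
        _ = a * z * a * z⁻¹ * (v * v) := by group
        _ = a * z * a * z⁻¹ := by rw [D.mem_V.1 hv, mul_one]
    have h1 : dd g' x * dd g x * x * (dd g' x * dd g x) * x⁻¹ = 1 := by
      rw [← gen]; exact h0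
    have e1 : x * dd g x * x⁻¹ = (dd g x)⁻¹ := eq_inv_of_mul_eq_one_right
      (by simpa [mul_assoc] using hinv g x hx)
    have e2 : x * dd g' x * x⁻¹ = (dd g' x)⁻¹ := eq_inv_of_mul_eq_one_right
      (by simpa [mul_assoc] using hinv g' x hx)
    have e3 : dd g' x * dd g x * ((x * dd g' x * x⁻¹) * (x * dd g x * x⁻¹)) = 1 := by
      rw [← h1]; group
    rw [e1, e2] at e3
    calc dd g x * dd g' x
        = (dd g' x * dd g x * ((dd g' x)⁻¹ * (dd g x)⁻¹)) * (dd g x * dd g' x) := by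
          rw [e3, one_mul]
      _ = _ := by group
  have hmulR : ∀ g, ∀ x ∈ L3, ∀ x' ∈ L3, ∃ v ∈ D.V, dd g (x * x') = dd g x * dd g x' * v := by
    intro g x hx x' hx'
    have hc := hcom2 _ (hdd g x' hx') x
    refine ⟨_, hc, ?_⟩
    rw [mul_assoc, D.V_central hc]
    simp only [hddef]; group
  have hcv : ∀ {a v b : P}, v ∈ D.V → (a * v) * b = b * (a * v) → a * b = b * a := by
    intro a v b hv h
    have hc : v * b = b * v := (D.V_central hv b).symm
    refine mul_right_cancel (b := v) ?_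
    calc a * b * v = a * (v * b) := by rw [hc, mul_assoc]
      _ = b * a * v := by rw [← mul_assoc, h, mul_assoc]
  -- kernels
  have hker : ∀ x ∈ L3, ∀ x' ∈ L3, ∀ g1 g2, dd g1 x ∉ D.V →
      dd g1 x * dd g2 x' ≠ dd g2 x' * dd g1 x → ∀ g, dd g x ∈ D.V → dd g x' ∈ D.V := by
    intro x hx x' hx' g1 g2 h1 hne g hg
    by_contra hgx
    apply hne
    have hxx' : x * x' ∈ L3 := L3.mul_mem hx hx'
    obtain ⟨v, hv, e⟩ := hmulR g x hx x' hx'
    obtain ⟨w, hw, e'⟩ := hmulR g1 x hx x' hx'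
    have hp := hpair g g1 (x * x') hxx'
    rw [e, e'] at hp
    -- the first product equals dd g x' times an involution
    have ea : dd g x * dd g x' * v = dd g x' * (dd g x * v) := by
      rw [← D.V_central hg (dd g x'), mul_assoc]
    rw [ea] at hp
    have hp1 := hcv (D.V.mul_mem hg hv) hp
    have hp2 := (hcv hw hp1.symm).symm
    have hp3 : dd g x' * dd g1 x' = dd g1 x' * dd g x' := hpair g g1 x' hx'
    have hp4 : dd g x' * dd g1 x = dd g1 x * dd g x' := by
      refine mul_right_cancel (b := dd g1 x') ?_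
      calc dd g x' * dd g1 x * dd g1 x' = dd g1 x * (dd g1 x' * dd g x') := by
            rw [mul_assoc, hp2, mul_assoc]
        _ = dd g1 x * dd g x' * dd g1 x' := by rw [← hp3, mul_assoc]
    exact trans' (hdd g x' hx') (hdd g1 x hx) (hdd g2 x' hx') hgx hp4 (hpair g g2 x' hx')
  -- two different lines
  obtain ⟨g1, x1, hx1, g2, x2, hx2, hd1, hd12⟩ : ∃ g1 x1, x1 ∈ L3 ∧ ∃ g2 x2, x2 ∈ L3 ∧
      dd g1 x1 ∉ D.V ∧ dd g1 x1 * dd g2 x2 ≠ dd g2 x2 * dd g1 x1 := by
    by_contra! hall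
    set S : Set P := (D.V : Set P) ∪ {z | ∃ g x, x ∈ L3 ∧ z = dd g x} with hS
    set A := Subgroup.closure S with hA
    have hSc : ∀ a ∈ S, ∀ b ∈ S, a * b = b * a := by
      rintro a ha b hb
      rcases ha with ha | ⟨g, x, hx, rfl⟩
      · exact (D.V_central ha b).symm
      rcases hb with hb | ⟨g', x', hx', rfl⟩
      · exact D.V_central hb _
      by_cases h : dd g x ∈ D.V
      · exact (D.V_central h _).symm
      · exact hall g x hx g' x' hx' h
    have hAcomm : IsMulCommutative A := Subgroup.isMulCommutative_closure hSc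
    have hAL2 : A ≤ L2 := (Subgroup.closure_le _).2 (by
      rintro a (ha | ⟨g, x, hx, rfl⟩)
      · exact hVL2 ha
      · exact hdd g x hx)
    have hVA : D.V ≤ A := fun v hv => Subgroup.subset_closure (Or.inl hv)
    have hI : D.Inv A := by
      refine ⟨fun a ha b hb => congrArg Subtype.val (hAcomm.is_comm.comm ⟨a, ha⟩ ⟨b, hb⟩),
        fun k a ha => ?_, ⟨fun a ha g => ?_⟩, hVA⟩
      · have : A ≤ A.comap (k : MulAut P).toMonoidHom := by
          rw [hA, Subgroup.closure_le]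
          rintro a (ha | ⟨g, x, hx, rfl⟩)
          · exact Subgroup.subset_closure (Or.inl (D.map_V _ ha))
          · refine Subgroup.subset_closure (Or.inr ⟨(k : MulAut P) g, (k : MulAut P) x, hL3K k x hx, ?_⟩)
            show (k : MulAut P) (dd g x) = _
            simp only [hddef, map_mul, map_inv]
        exact this ha
      · have := A.mul_mem (hVA (hcom2 a (hAL2 ha) g)) ha
        rwa [inv_mul_cancel_right] at this
    refine hx02 (mem_layer.2 ⟨hsq3 x0 hx0, fun g => ?_⟩)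
    rw [← hmax A hI]
    exact Subgroup.subset_closure (Or.inr ⟨g, x0, hx0, (hddef g x0).symm⟩)
  have hd2 : dd g2 x2 ∉ D.V := fun h => hd12 (D.V_central h _)
  have h12 := hker x1 hx1 x2 hx2 g1 g2 hd1 hd12
  have h21 := hker x2 hx2 x1 hx1 g2 g1 hd2 (Ne.symm hd12)
  have hall : ∀ x ∈ L3, ∀ g, dd g x1 ∈ D.V → dd g x ∈ D.V := by
    intro x hx g hg
    by_contra hgx
    by_cases h1 : dd g1 x1 * dd g x = dd g x * dd g1 x1
    · have h2 : dd g2 x2 * dd g x ≠ dd g x * dd g2 x2 := fun h2 =>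
        hd12 (trans' (hdd g x hx) (hdd g1 x1 hx1) (hdd g2 x2 hx2) hgx h1.symm h2.symm)
      exact hgx (hker x2 hx2 x hx g2 g hd2 h2 g (h12 g hg))
    · exact hgx (hker x1 hx1 x hx g1 g hd1 h1 g hg)
  let C0 : Subgroup P :=
    { carrier := {g | ∀ x ∈ L3, dd g x ∈ D.V}
      one_mem' := fun x _ => by simp [hddef]
      mul_mem' := fun {a b} ha hb x hx => by
        obtain ⟨v, hv, e⟩ := hmulL a b x hx
        rw [e]; exact mul_mem (mul_mem (hb x hx) (ha x hx)) hv
      inv_mem' := fun {a} ha x hx => by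
        obtain ⟨v, hv, e⟩ := hmulL a⁻¹ a x hx
        rw [inv_mul_cancel, show dd 1 x = 1 by simp [hddef]] at e
        rw [show dd a⁻¹ x = (dd a x)⁻¹ * (dd a x * dd a⁻¹ x * v) * v⁻¹ by group, ← e]
        exact mul_mem (mul_mem (inv_mem (ha x hx)) (one_mem _)) (inv_mem hv) }
  have hC0K : ∀ k : D.K, ∀ a ∈ C0, (k : MulAut P) a ∈ C0 := by
    intro k a ha x hx
    obtain ⟨x', rfl⟩ := (k : MulAut P).surjective x
    have hx' : x' ∈ L3 := by
      have := hL3K k⁻¹ _ hx
      simpa using this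
    have e : dd ((k : MulAut P) a) ((k : MulAut P) x') = (k : MulAut P) (dd a x') := by
      simp only [hddef, map_mul, map_inv]
    rw [e]; exact D.map_V _ (ha x' hx')
  have hg1C : g1 ∉ C0 := fun h => hd1 (h x1 hx1)
  have jP := D.card_jump hC0K (M := ⊤) (fun k a _ => Subgroup.mem_top _) le_top
    (Subgroup.mem_top g1) hg1C
  rw [D.card_K_add_one, Subgroup.card_top] at jP
  set A1 := Subgroup.closure ((D.V : Set P) ∪ {z | ∃ g, z = dd g x1}) with hA1
  have hA1L : A1 ≤ L2 := (Subgroup.closure_le _).2 (by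
    rintro a (ha | ⟨g, rfl⟩)
    · exact hVL2 ha
    · exact hdd g x1 hx1)
  have hA1c : IsMulCommutative A1 := Subgroup.isMulCommutative_closure (by
    rintro a (ha | ⟨g, rfl⟩) b (hb | ⟨g', rfl⟩)
    · exact (D.V_central ha b).symm
    · exact (D.V_central ha _).symm
    · exact D.V_central hb _
    · exact hpair g g' x1 hx1)
  have hlt : Nat.card A1 < Nat.card L2 := by
    refine lt_of_le_of_ne (Nat.le_of_dvd Nat.card_pos (Subgroup.card_dvd_of_le hA1L)) fun e => ?_
    have e' : A1 = L2 := Subgroup.eq_of_le_of_card_ge hA1L e.ge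
    have hI : D.Inv L2 := ⟨fun a ha b hb => congrArg Subtype.val
      (hA1c.is_comm.comm ⟨a, e' ▸ ha⟩ ⟨b, e' ▸ hb⟩), hL2K, inferInstance, hVL2⟩
    exact hz0V (hmax L2 hI ▸ hz0)
  have hbound : Nat.card (P ⧸ C0) * Nat.card D.V ≤ Nat.card A1 := by
    rw [← Nat.card_prod]
    refine Nat.card_le_card_of_injective
      (fun p => (⟨dd (Quotient.out p.1) x1 * p.2.1, A1.mul_mem (Subgroup.subset_closure (Or.inr ⟨_, rfl⟩))
        (Subgroup.subset_closure (Or.inl p.2.2))⟩ : A1)) ?_
    rintro ⟨p, v⟩ ⟨p', v'⟩ e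
    have e' : dd p.out x1 * v.1 = dd p'.out x1 * v'.1 := congrArg Subtype.val e
    have hpp : p = p' := by
      rw [← QuotientGroup.out_eq' p, ← QuotientGroup.out_eq' p', QuotientGroup.eq]
      intro x hx
      refine hall x hx _ ?_
      have h0 : (dd p.out x1)⁻¹ * dd p'.out x1 = v.1 * v'.1⁻¹ := by
        rw [eq_mul_inv_of_mul_eq e'.symm]; group
      obtain ⟨w, hw, ew⟩ := hmulL p.out ((p.out)⁻¹ * p'.out) x1 hx1
      rw [mul_inv_cancel_left] at ew
      have hval : dd ((p.out)⁻¹ * p'.out) x1 = dd p'.out x1 * w⁻¹ * (dd p.out x1)⁻¹ := by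
        rw [ew]; group
      have hconj := conj_fix (D := D) (v := v.1 * v'.1⁻¹) (mul_mem v.2 (inv_mem v'.2)) (dd p.out x1)
      rw [hval, D.V_central (D.V.inv_mem hw) (dd p'.out x1), mul_assoc,
        show dd p'.out x1 * (dd p.out x1)⁻¹ =
          dd p.out x1 * ((dd p.out x1)⁻¹ * dd p'.out x1) * (dd p.out x1)⁻¹ by group, h0, hconj]
      exact mul_mem (inv_mem hw) (mul_mem v.2 (inv_mem v'.2))
    subst hpp
    exact Prod.ext rfl (Subtype.ext (mul_left_cancel e'))
  have hPC := Subgroup.card_eq_card_quotient_mul_card_subgroup C0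
  rw [hPC] at jP
  have hq2 : Nat.card D.V ≤ Nat.card (P ⧸ C0) := Nat.le_of_mul_le_mul_right jP Nat.card_pos
  have : Nat.card D.V * Nat.card D.V ≤ Nat.card A1 := (Nat.mul_le_mul_right _ hq2).trans hbound
  omega

end Cfsg.Agent.Suzuki2.Datum
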