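/-
Higman: all squares are involutions when a maximal abelian normal invariant subgroup has exponent
four.
-/
import Cfsg.Agent.Lib.Suzuki2.Center
import Cfsg.Agent.Lib.Suzuki2.FieldTools
import Cfsg.Agent.Lib.Solvable.Structure

set_option autoImplicit false

namespace Cfsg.Agent.Suzuki2.Datum

open Subgroup Cfsg.Agent.RankOne

universe u

variable {P : Type u} [Group P] [Finite P] {D : Datum P} {A : Subgroup P}

theorem Homo.mem_V_of_two (hh : D.Homo A 2) {a : P} (ha : a ∈ A) : a * a ∈ D.V := by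
  simpa [pow_two] using hh.pow_mem_V ha

theorem conj_mul_inv_mem_V (hh : D.Homo A 2) (h : D.Inv A) (y : P) {a : P} (ha : a ∈ A) :
    y * a * y⁻¹ * a⁻¹ ∈ D.V := by
  rw [D.mem_V]
  have e : y * a * y⁻¹ * a⁻¹ * (y * a * y⁻¹ * a⁻¹) = y * (a * a) * y⁻¹ * (a * a)⁻¹ := by
    calc _ = y * a * y⁻¹ * (a⁻¹ * (y * a * y⁻¹)) * a⁻¹ := by group
      _ = y * a * y⁻¹ * ((y * a * y⁻¹) * a⁻¹) * a⁻¹ := by
        rw [h.comm _ (A.inv_mem ha) _ (h.conj_mem y ha)]
      _ = _ := by group
  rw [e, conj_fix (hh.mem_V_of_two ha), mul_inv_cancel]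

/-- A maximal invariant subgroup of exponent four is self-centralising. -/
theorem centralizer_le (h : D.Inv A) (hmax : ∀ B, D.Inv B → A ≤ B → B = A) (hh : D.Homo A 2) :
    Subgroup.centralizer (A : Set P) ≤ A := by
  classical
  haveI := h.normal
  intro c hc
  by_contra hcA
  set N := (Subgroup.centralizer (A : Set P)).map (QuotientGroup.mk' A) with hN
  haveI : N.Normal := Subgroup.Normal.map inferInstance _ (QuotientGroup.mk'_surjective A)
  haveI : Fact (Nat.Prime 2) := ⟨Nat.prime_two⟩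
  have hq : IsPGroup 2 (P ⧸ A) := D.isp.to_quotient A
  haveI : Group.IsNilpotent (P ⧸ A) := hq.isNilpotent
  have hne : N ≠ ⊥ := fun e => hcA ((QuotientGroup.eq_one_iff c).1
    (Subgroup.mem_bot.1 (e ▸ Subgroup.mem_map_of_mem (QuotientGroup.mk' A) hc : (c : P ⧸ A) ∈ (⊥ : Subgroup (P ⧸ A)))))
  have hne' := Cfsg.Agent.SolvStruct.inf_center_ne_bot hne
  haveI : Nontrivial (N ⊓ Subgroup.center (P ⧸ A) : Subgroup (P ⧸ A)) :=
    (Subgroup.nontrivial_iff_ne_bot _).2 hne'
  obtain ⟨m, hm⟩ := IsPGroup.iff_card.1 (hq.to_subgroup (N ⊓ Subgroup.center (P ⧸ A)))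
  have hm0 : m ≠ 0 := fun e => by
    rw [e, pow_zero] at hm
    exact (Finite.one_lt_card (α := (N ⊓ Subgroup.center (P ⧸ A) : Subgroup (P ⧸ A)))).ne' hm
  obtain ⟨z, hz⟩ := exists_prime_orderOf_dvd_card'
    (G := (N ⊓ Subgroup.center (P ⧸ A) : Subgroup (P ⧸ A))) 2 (hm ▸ dvd_pow_self 2 hm0)
  obtain ⟨hzN, hzC⟩ := Subgroup.mem_inf.1 z.2
  obtain ⟨y, hy, hyz⟩ := Subgroup.mem_map.1 hzN
  have hyA : y ∉ A := fun hy' => by
    rw [← Subgroup.orderOf_coe, ← hyz, QuotientGroup.mk'_apply, (QuotientGroup.eq_one_iff y).2 hy',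
      orderOf_one] at hz
    omega
  have hlay : y ∈ layer A := by
    refine ⟨?_, ?_⟩
    · show (y : P ⧸ A) ∈ _
      rw [← QuotientGroup.mk'_apply, hyz]; exact hzC
    · have h' := pow_orderOf_eq_one z
      rw [hz, pow_two] at h'
      show (y : P ⧸ A) * (y : P ⧸ A) = 1
      rw [← QuotientGroup.mk'_apply, hyz]
      exact congrArg Subtype.val h'
  exact hyA (centralizing_mem h hmax hh le_rfl hlay fun a ha =>
    (Subgroup.mem_centralizer_iff.1 hy a ha).symm)

theorem sq_mem_and_comm_mem (h : D.Inv A) (hmax : ∀ B, D.Inv B → A ≤ B → B = A) (hh : D.Homo A 2)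
    (y : P) : y * y ∈ A ∧ ∀ g : P, g * y * g⁻¹ * y⁻¹ ∈ A := by
  have hC := centralizer_le h hmax hh
  let d : P → P → P := fun y a => y * a * y⁻¹ * a⁻¹
  have hdm : ∀ y z, ∀ a ∈ A, d (y * z) a = d y a * d z a := by
    intro y z a ha
    have hv := conj_mul_inv_mem_V hh h z ha
    calc d (y * z) a = y * d z a * (a * y⁻¹ * a⁻¹) := by simp only [d]; group
      _ = d z a * d y a := by rw [D.V_central hv y]; simp only [d]; group
      _ = _ := (D.V_central hv _).symm
  have hd1 : ∀ a, d 1 a = 1 := fun a => by simp only [d]; group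
  have hmem : ∀ w, (∀ a ∈ A, d w a = 1) → w ∈ A := fun w hw => hC (Subgroup.mem_centralizer_iff.2
    fun a ha => (mul_inv_eq_iff_eq_mul.1 (mul_inv_eq_one.1 (hw a ha))).symm)
  refine ⟨hmem _ fun a ha => ?_, fun g => hmem _ fun a ha => ?_⟩
  · rw [hdm y y a ha]; exact D.mem_V.1 (conj_mul_inv_mem_V hh h y ha)
  · have hi : ∀ w, d w⁻¹ a = d w a := fun w => by
      have e := hdm w⁻¹ w a ha
      rw [inv_mul_cancel, hd1] at e
      rw [eq_inv_of_mul_eq_one_left e.symm]
      exact inv_eq_of_mul_eq_one_right (D.mem_V.1 (conj_mul_inv_mem_V hh h w ha))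
    have hv := conj_mul_inv_mem_V hh h g ha
    rw [hdm _ _ a ha, hdm _ _ a ha, hdm _ _ a ha, hi, hi]
    calc d g a * d y a * d g a * d y a = d g a * (d y a * d g a) * d y a := by group
      _ = d g a * (d g a * d y a) * d y a := by rw [D.V_central hv (d y a)]
      _ = (d g a * d g a) * (d y a * d y a) := by group
      _ = 1 := by rw [D.mem_V.1 hv, D.mem_V.1 (conj_mul_inv_mem_V hh h y ha), one_mul]

/-- The linear maps of the involutions attached to the elements of the group. -/
theorem exists_coeff (h : D.Inv A) (hmax : ∀ B, D.Inv B → A ≤ B → B = A) (hh : D.Homo A 2)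
    {F : Type u} [Field F] [Fintype F] [CharP F 2] [Fintype (F ≃+* F)] (C : Coord D F) :
    ∃ c : P → (F ≃+* F) → F,
      (∀ y z, c (y * z) = c y + c z) ∧ (∀ y, c y = 0 ↔ y ∈ A) ∧
      (∀ y, ∀ a ∈ A, C.co (y * a * y⁻¹ * a⁻¹) = ∑ φ, c y φ * φ (C.co (a * a))) ∧
      ∀ (k : D.K) y φ, c ((k : MulAut P) y) φ = (C.μ k : F) * (φ (C.μ k : F))⁻¹ * c y φ := by
  classical
  have hroot : ∀ x : F, ∃ a ∈ A, C.co (a * a) = x := fun x => by
    obtain ⟨a, ha, e⟩ := hh.root _ (C.el_mem x)
    exact ⟨a, ha, by rw [← pow_two a, show (2 : ℕ) = 2 ^ (2 - 1) by norm_num, e, C.co_el]⟩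
  choose r hrA hr using hroot
  let d : P → P → P := fun y a => y * a * y⁻¹ * a⁻¹
  have hdV : ∀ y, ∀ a ∈ A, d y a ∈ D.V := fun y a ha => conj_mul_inv_mem_V hh h y ha
  have hdr : ∀ y, ∀ a ∈ A, ∀ b ∈ A, d y (a * b) = d y a * d y b := by
    intro y a ha b hb
    calc d y (a * b) = y * a * y⁻¹ * d y b * a⁻¹ := by simp only [d]; group
      _ = d y b * d y a := by rw [D.V_central (hdV y b hb)]; simp only [d]; group
      _ = _ := (D.V_central (hdV y b hb) _).symm
  have hdl : ∀ y z, ∀ a ∈ A, d (y * z) a = d y a * d z a := by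
    intro y z a ha
    calc d (y * z) a = y * d z a * (a * y⁻¹ * a⁻¹) := by simp only [d]; group
      _ = d z a * d y a := by rw [D.V_central (hdV z a ha) y]; simp only [d]; group
      _ = _ := (D.V_central (hdV z a ha) _).symm
  have hdv : ∀ y, ∀ v ∈ D.V, d y v = 1 := fun y v hv => by
    show y * v * y⁻¹ * v⁻¹ = 1
    rw [conj_fix hv, mul_inv_cancel]
  have hwd : ∀ y, ∀ a ∈ A, d y a = d y (r (C.co (a * a))) := by
    intro y a ha
    set b := r (C.co (a * a)) with hb
    have hbA : b ∈ A := hrA _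
    have hsq : b * b = a * a := C.co_inj (hh.mem_V_of_two hbA) (hh.mem_V_of_two ha) (hr _)
    have hv : b⁻¹ * a ∈ D.V := by
      rw [D.mem_V]
      calc b⁻¹ * a * (b⁻¹ * a) = b⁻¹ * (a * b⁻¹) * a := by group
        _ = b⁻¹ * (b⁻¹ * a) * a := by rw [h.comm a ha _ (A.inv_mem hbA)]
        _ = (b * b)⁻¹ * (a * a) := by group
        _ = 1 := by rw [hsq, inv_mul_cancel]
    conv_lhs => rw [show a = b * (b⁻¹ * a) by group]
    rw [hdr y b hbA _ (h.vle hv), hdv y _ hv, mul_one]
  have hadd : ∀ y x x', C.co (d y (r (x + x'))) = C.co (d y (r x)) + C.co (d y (r x')) := by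
    intro y x x'
    have hsum : C.co (r x * r x' * (r x * r x')) = x + x' := by
      have e : r x * r x' * (r x * r x') = (r x * r x) * (r x' * r x') := by
        calc r x * r x' * (r x * r x') = r x * (r x' * r x) * r x' := by group
          _ = r x * (r x * r x') * r x' := by rw [h.comm _ (hrA x') _ (hrA x)]
          _ = _ := by group
      rw [e, C.co_mul _ (hh.mem_V_of_two (hrA x)) _ (hh.mem_V_of_two (hrA x')), hr, hr]
    rw [← C.co_mul _ (hdV y _ (hrA x)) _ (hdV y _ (hrA x')), ← hdr y _ (hrA x) _ (hrA x'),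
      hwd y _ (A.mul_mem (hrA x) (hrA x')), hsum]
  choose c hc using fun y => FieldMaps.exists_combo
    (AddMonoidHom.mk' (fun x => C.co (d y (r x))) (hadd y))
  have hval : ∀ y, ∀ a ∈ A, C.co (d y a) = ∑ φ, c y φ * φ (C.co (a * a)) := fun y a ha => by
    rw [hwd y a ha]; exact hc y _
  have huniq : ∀ (y : P) (w : (F ≃+* F) → F),
      (∀ x, C.co (d y (r x)) = ∑ φ, w φ * φ x) → c y = w := fun y w hw =>
    FieldMaps.combo_injective (AddMonoidHom.ext fun x => by
      rw [FieldMaps.combo_apply, FieldMaps.combo_apply]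
      exact (hc y x).symm.trans (hw x))
  have hmul : ∀ y z, c (y * z) = c y + c z := fun y z => huniq _ _ fun x => by
    rw [hdl y z _ (hrA x), C.co_mul _ (hdV y _ (hrA x)) _ (hdV z _ (hrA x))]
    have e1 : C.co (d y (r x)) = _ := hc y x
    have e2 : C.co (d z (r x)) = _ := hc z x
    rw [e1, e2, ← Finset.sum_add_distrib]
    exact Finset.sum_congr rfl fun φ _ => by rw [Pi.add_apply, add_mul]
  refine ⟨c, hmul, fun y => ⟨fun e => ?_, fun hy => ?_⟩, hval, fun k y φ => ?_⟩
  · refine centralizer_le h hmax hh (Subgroup.mem_centralizer_iff.2 fun a ha => ?_)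
    have e1 := hval y a ha
    rw [e] at e1
    simp only [Pi.zero_apply, zero_mul, Finset.sum_const_zero] at e1
    exact (mul_inv_eq_iff_eq_mul.1 (mul_inv_eq_one.1 (C.co_eq_zero (hdV y a ha) e1))).symm
  · refine huniq _ _ fun x => ?_
    simp only [Pi.zero_apply, zero_mul, Finset.sum_const_zero]
    rw [show d y (r x) = 1 by simp only [d]; rw [h.comm y hy _ (hrA x)]; group, C.co_one]
  · refine congrFun (huniq ((k : MulAut P) y)
      (fun φ => (C.μ k : F) * (φ (C.μ k : F))⁻¹ * c y φ) fun x => ?_) φ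
    have hx : r x = (k : MulAut P) (((k⁻¹ : D.K) : MulAut P) (r x)) := by simp
    have hb : ((k⁻¹ : D.K) : MulAut P) (r x) ∈ A := h.stable _ _ (hrA x)
    set b := ((k⁻¹ : D.K) : MulAut P) (r x)
    have hsq : C.co (b * b) = (C.μ k : F)⁻¹ * x := by
      have e := C.co_k k _ (hh.mem_V_of_two hb)
      rw [map_mul, ← hx, hr x] at e
      rw [e, ← mul_assoc, inv_mul_cancel₀ (Units.ne_zero _), one_mul]
    have hk : d ((k : MulAut P) y) (r x) = (k : MulAut P) (d y b) := by
      rw [hx]; simp only [d, map_mul, map_inv]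
    rw [hk, C.co_k k _ (hdV y b hb), hval y b hb, hsq, Finset.mul_sum]
    exact Finset.sum_congr rfl fun φ _ => by rw [map_mul, map_inv₀]; ring

theorem coeff_refl (h : D.Inv A) {F : Type u} [Field F] [Fintype F] [CharP F 2]
    (C : Coord D F) {c : P → (F ≃+* F) → F} (hmul : ∀ y z, c (y * z) = c y + c z)
    (hk : ∀ (k : D.K) y φ, c ((k : MulAut P) y) φ = (C.μ k : F) * (φ (C.μ k : F))⁻¹ * c y φ)
    (y : P) : c y (RingEquiv.refl F) = 0 := by
  have hone : c 1 = 0 := by
    have e := hmul 1 1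
    rw [one_mul] at e
    exact left_eq_add.1 e
  let N : Subgroup P :=
    { carrier := {y | c y (RingEquiv.refl F) = 0}
      one_mem' := by simp [hone]
      mul_mem' := fun {a b} ha hb => by
        simp only [Set.mem_setOf_eq] at ha hb ⊢
        rw [hmul, Pi.add_apply, ha, hb, add_zero]
      inv_mem' := fun {a} ha => by
        simp only [Set.mem_setOf_eq] at ha ⊢
        have e := congrFun (hmul a⁻¹ a) (RingEquiv.refl F)
        rw [inv_mul_cancel, hone, Pi.zero_apply, Pi.add_apply, ha, add_zero] at e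
        exact e.symm }
  have hfix : ∀ (k : D.K) y, c ((k : MulAut P) y) (RingEquiv.refl F) = c y (RingEquiv.refl F) :=
    fun k y => by
      rw [hk, RingEquiv.refl_apply, mul_inv_cancel₀ (Units.ne_zero _), one_mul]
  obtain ⟨u, v, huv, hu, hu2, hv, hv2⟩ := D.two
  obtain ⟨k, hk'⟩ := (D.reg u v hu hu2 hv hv2).exists
  have hk1 : k ≠ 1 := fun e => huv (by rw [← hk', e]; rfl)
  refine D.free_section (N := N) (fun k a ha => (hfix k a).trans ha) hk1 (x := y) ?_
  show c _ (RingEquiv.refl F) = 0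
  rw [hmul, Pi.add_apply, hfix, ← Pi.add_apply, ← hmul, inv_mul_cancel, hone, Pi.zero_apply]

theorem zmod_two_cases : ∀ a : ZMod 2, a = 0 ∨ a = 1 := by decide

/-- Every coefficient vector splits into its components. -/
theorem exists_component {F : Type u} [Field F] [Fintype F] [CharP F 2] (C : Coord D F)
    {c : P → (F ≃+* F) → F} (hmul : ∀ y z, c (y * z) = c y + c z)
    (hk : ∀ (k : D.K) y φ, c ((k : MulAut P) y) φ = (C.μ k : F) * (φ (C.μ k : F))⁻¹ * c y φ)
    (hrefl : ∀ y, c y (RingEquiv.refl F) = 0) (y : P) (ψ : F ≃+* F) :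
    ∃ z, c z ψ = c y ψ ∧ ∀ φ, φ ≠ ψ → c z φ = 0 := by
  classical
  haveI : Fact (Nat.Prime 2) := ⟨Nat.prime_two⟩
  letI := ZMod.algebra F 2
  haveI := Fintype.ofFinite (F ≃+* F)
  have hone : c 1 = 0 := by
    have e := hmul 1 1
    rw [one_mul] at e
    exact left_eq_add.1 e
  rcases eq_or_ne ψ (RingEquiv.refl F) with rfl | hψ
  · exact ⟨1, by rw [hone, hrefl]; rfl, fun φ _ => congrFun hone φ⟩
  -- multipliers
  let R : Submonoid ((F ≃+* F) → F) :=
    { carrier := {r | ∀ y, ∃ z, c z = r * c y}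
      one_mem' := fun y => ⟨y, (one_mul _).symm⟩
      mul_mem' := fun {r s} hr hs y => by
        obtain ⟨z, hz⟩ := hs y
        obtain ⟨z', hz'⟩ := hr z
        exact ⟨z', by rw [hz', hz, mul_assoc]⟩ }
  have hpoly : ∀ (μ : Fˣ) (p : Polynomial (ZMod 2)),
      (fun φ : F ≃+* F => Polynomial.aeval ((μ : F) * (φ (μ : F))⁻¹) p) ∈ R := by
    intro μ p
    obtain ⟨k, rfl⟩ := C.μ_bij.2 μ
    induction p using Polynomial.induction_on' with
    | add p q hp hq =>
      intro y
      obtain ⟨z, hz⟩ := hp y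
      obtain ⟨z', hz'⟩ := hq y
      refine ⟨z * z', ?_⟩
      rw [hmul, hz, hz']
      funext φ
      simp only [Pi.add_apply, Pi.mul_apply, map_add, add_mul]
    | monomial n a =>
      rcases zmod_two_cases a with rfl | rfl
      · intro y
        refine ⟨1, ?_⟩
        rw [hone]; funext φ; simp
      · have hchi : (fun φ : F ≃+* F => (C.μ k : F) * (φ (C.μ k : F))⁻¹) ∈ R :=
          fun y => ⟨(k : MulAut P) y, funext fun φ => hk k y φ⟩
        have := R.pow_mem hchi n
        convert this using 1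
        funext φ
        simp [Polynomial.aeval_monomial]
  have hsep : ∀ φ : F ≃+* F, ∃ μp : Fˣ × Polynomial (ZMod 2),
      Polynomial.aeval ((μp.1 : F) * (ψ (μp.1 : F))⁻¹) μp.2 ≠ 0 ∧ (φ ≠ ψ → φ ≠ RingEquiv.refl F →
        Polynomial.aeval ((μp.1 : F) * (φ (μp.1 : F))⁻¹) μp.2 = 0) := by
    intro φ
    by_cases h1 : φ ≠ ψ ∧ φ ≠ RingEquiv.refl F
    · obtain ⟨μ, p, hp, hp'⟩ := exists_separating h1.2 h1.1
      exact ⟨(μ, p), hp, fun _ _ => hp'⟩
    · exact ⟨(1, 1), by simp, fun a b => absurd ⟨a, b⟩ h1⟩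
  choose μp hne hzero using hsep
  let r : (F ≃+* F) → F := ∏ φ,
    fun θ : F ≃+* F => Polynomial.aeval (((μp φ).1 : F) * (θ ((μp φ).1 : F))⁻¹) (μp φ).2
  have hrR : r ∈ R := Submonoid.prod_mem R fun φ _ => hpoly _ _
  obtain ⟨z, hz⟩ := R.pow_mem hrR (Fintype.card F - 1) y
  refine ⟨z, ?_, fun φ hφ => ?_⟩
  · rw [hz, Pi.mul_apply, Pi.pow_apply, FiniteField.pow_card_sub_one_eq_one, one_mul]
    simp only [r, Finset.prod_apply]
    exact Finset.prod_ne_zero_iff.2 fun φ _ => hne φ
  · rw [hz, Pi.mul_apply, Pi.pow_apply]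
    rcases eq_or_ne φ (RingEquiv.refl F) with rfl | hφ'
    · rw [hrefl, mul_zero]
    · rw [show r φ = 0 by
        simp only [r, Finset.prod_apply]
        exact Finset.prod_eq_zero (Finset.mem_univ φ) (hzero φ hφ hφ'),
        zero_pow (by have := Fintype.one_lt_card (α := F); omega), zero_mul]

/-- All squares are involutions. -/
theorem sq_mem_of_exp_four (h : D.Inv A) (hmax : ∀ B, D.Inv B → A ≤ B → B = A) (hh : D.Homo A 2)
    (y : P) : y * y ∈ D.V := by
  classical
  haveI := h.normal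
  obtain ⟨F, _, _, _, ⟨C⟩, hF⟩ := exists_coord D
  haveI := Fintype.ofFinite (F ≃+* F)
  obtain ⟨c, hmul, hzero, hval, hk⟩ := exists_coeff h hmax hh C
  have hrefl := coeff_refl h C hmul hk
  have hlay : ∀ y, y * y ∈ A ∧ ∀ g : P, g * y * g⁻¹ * y⁻¹ ∈ A := sq_mem_and_comm_mem h hmax hh
  have hone : c 1 = 0 := (hzero 1).2 (one_mem _)
  have hinv : ∀ y, c y⁻¹ = c y := fun y => by
    have e := hmul y⁻¹ y
    rw [inv_mul_cancel, hone] at e
    funext φ
    exact CharTwo.add_eq_zero.1 (congrFun e φ).symm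
  let Axis : Set P := {z | ∃ ψ, ∀ φ, φ ≠ ψ → c z φ = 0}
  have hgen : Subgroup.closure Axis = ⊤ := by
    refine eq_top_iff.2 fun y _ => ?_
    induction hn : (Finset.univ.filter fun φ => c y φ ≠ 0).card using Nat.strong_induction_on
      generalizing y with
    | _ n ih =>
      by_cases hy : y ∈ A
      · exact Subgroup.subset_closure ⟨RingEquiv.refl F, fun φ _ => congrFun ((hzero y).2 hy) φ⟩
      obtain ⟨ψ, hψ⟩ : ∃ ψ, c y ψ ≠ 0 := by
        by_contra! h0
        exact hy ((hzero y).1 (funext h0))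
      obtain ⟨z, hz, hz'⟩ := exists_component C hmul hk hrefl y ψ
      have hzc : z ∈ Subgroup.closure Axis := Subgroup.subset_closure ⟨ψ, hz'⟩
      have hw : z⁻¹ * y ∈ Subgroup.closure Axis := by
        refine ih _ ?_ (z⁻¹ * y) (Subgroup.mem_top _) rfl
        subst hn
        refine Finset.card_lt_card (Finset.ssubset_iff_of_subset (fun φ hφ => ?_) |>.2 ⟨ψ, ?_, ?_⟩)
        · simp only [Finset.mem_filter, Finset.mem_univ, true_and, hmul, hinv, Pi.add_apply] at hφ ⊢
          intro e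
          rw [e, add_zero] at hφ
          rcases eq_or_ne φ ψ with rfl | hne
          · exact hφ (hz.trans e)
          · exact hφ (hz' φ hne)
        · simpa using hψ
        · simp [hmul, hinv, hz, CharTwo.add_self_eq_zero]
      simpa using mul_mem hzc hw
  have hVA : ∀ v ∈ D.V, v ∈ A := fun v hv => h.vle hv
  -- squares of axis elements
  have hfour : ∀ y, y * y * (y * y) ∈ D.V := fun y => hh.mem_V_of_two (hlay y).1
  have haxis : ∀ z ∈ Axis, z * z ∈ D.V := by
    rintro z ⟨ψ, hz⟩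
    by_cases hzA : z ∈ A
    · exact hh.mem_V_of_two hzA
    have hψ : c z ψ ≠ 0 := fun e => hzA ((hzero z).1 (funext fun φ => by
      rcases eq_or_ne φ ψ with rfl | hne
      · exact e
      · exact hz φ hne))
    have e := hval z _ (hlay z).1
    rw [show z * (z * z) * z⁻¹ * (z * z)⁻¹ = 1 by group, C.co_one,
      Finset.sum_eq_single ψ (fun φ _ hne => by rw [hz φ hne, zero_mul]) (by simp)] at e
    rw [D.mem_V]
    exact C.co_eq_zero (hfour z) (by simpa [hψ] using e.symm)
  let δ : P → P → P := fun y z => y * z * y⁻¹ * z⁻¹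
  have hδA : ∀ y z, δ y z ∈ A := fun y z => (hlay z).2 y
  let β : P → P → F := fun y z => C.co (δ y z * δ y z)
  have hsqmul : ∀ a ∈ A, ∀ b ∈ A, C.co (a * b * (a * b)) = C.co (a * a) + C.co (b * b) := by
    intro a ha b hb
    rw [← C.co_mul _ (hh.mem_V_of_two ha) _ (hh.mem_V_of_two hb)]
    congr 1
    calc a * b * (a * b) = a * (b * a) * b := by group
      _ = a * (a * b) * b := by rw [h.comm b hb a ha]
      _ = _ := by group
  have hconjsq : ∀ g, ∀ a ∈ A, C.co (g * a * g⁻¹ * (g * a * g⁻¹)) = C.co (a * a) := by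
    intro g a ha
    rw [show g * a * g⁻¹ * (g * a * g⁻¹) = g * (a * a) * g⁻¹ by group,
      conj_fix (hh.mem_V_of_two ha)]
  have hsymm : ∀ y z, β y z = β z y := fun y z => by
    show C.co _ = C.co _
    rw [show δ y z = (δ z y)⁻¹ by simp only [δ]; group, ← mul_inv_rev,
      inv_eq_of_mul_eq_one_right (D.mem_V.1 (hh.mem_V_of_two (hδA z y)))]
  have hβr : ∀ y z z', β y (z * z') = β y z + β y z' := by
    intro y z z'
    show C.co _ = C.co _ + C.co _
    rw [show δ y (z * z') = δ y z * (z * δ y z' * z⁻¹) by simp only [δ]; group,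
      hsqmul _ (hδA y z) _ (h.conj_mem z (hδA y z')), hconjsq z _ (hδA y z')]
  have hβl : ∀ y y' z, β (y * y') z = β y z + β y' z := fun y y' z => by
    rw [hsymm, hβr, hsymm z, hsymm z y']
  have hβA : ∀ y, ∀ a ∈ A, β y a = 0 := fun y a ha => by
    show C.co _ = 0
    rw [D.mem_V.1 (conj_mul_inv_mem_V hh h y ha), C.co_one]
  have hβ1 : ∀ y, β y 1 = 0 := fun y => hβA y 1 (one_mem _)
  have hfix : ∀ y, y * y ∈ D.V → ∀ z, ∑ φ, c y φ * φ (β y z) = β y z := by
    intro y hy z
    have e : (y * δ y z * y⁻¹ * (δ y z)⁻¹) * (δ y z * δ y z) = 1 := by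
      calc _ = y * y * z * (y * y)⁻¹ * z⁻¹ := by simp only [δ]; group
        _ = 1 := by rw [← D.V_central hy z, mul_inv_cancel_right, mul_inv_cancel]
    have e' := congrArg C.co e
    rw [C.co_mul _ (conj_mul_inv_mem_V hh h y (hδA y z)) _ (hh.mem_V_of_two (hδA y z)), C.co_one,
      hval y _ (hδA y z)] at e'
    exact CharTwo.add_eq_zero.1 e'
  have hsingle : ∀ {y : P} {ψ : F ≃+* F}, (∀ φ, φ ≠ ψ → c y φ = 0) → ∀ x,
      ∑ φ, c y φ * φ x = c y ψ * ψ x := fun {y ψ} hy x =>
    Finset.sum_eq_single ψ (fun φ _ hne => by rw [hy φ hne, zero_mul]) (by simp)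
  have haxis0 : ∀ y ∈ Axis, ∀ z ∈ Axis, β y z = 0 := by
    rintro y ⟨ψ, hy⟩ z ⟨φz, hz⟩
    by_contra hb
    have hyA : y ∉ A := fun hyA => hb (by rw [hsymm]; exact hβA z y hyA)
    have hψ0 : c y ψ ≠ 0 := fun e => hyA ((hzero y).1 (funext fun φ => by
      rcases eq_or_ne φ ψ with rfl | hne
      · exact e
      · exact hy φ hne))
    -- every value is attained on the axis
    have hsurj : ∀ s : F, ∃ w, c w ψ = s ∧ ∀ φ, φ ≠ ψ → c w φ = 0 := by
      intro s
      rcases eq_or_ne s 0 with rfl | hs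
      · exact ⟨1, congrFun hone ψ, fun φ _ => congrFun hone φ⟩
      let m : D.K → Fˣ := fun k => Units.mk0 (c ((k : MulAut P) y) ψ) (by
        rw [hk]; exact mul_ne_zero (mul_ne_zero (Units.ne_zero _) (by simp)) hψ0)
      have hm : Function.Bijective m := by
        refine (Nat.bijective_iff_injective_and_card _).2 ⟨fun k l e => ?_, ?_⟩
        · by_contra hne
          have e' : c ((k : MulAut P) y) ψ = c ((l : MulAut P) y) ψ := congrArg Units.val e
          have hmem : ((k : MulAut P) y)⁻¹ * (l : MulAut P) y ∈ A := (hzero _).1 (by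
            rw [hmul, hinv]
            funext φ
            rcases eq_or_ne φ ψ with rfl | hne'
            · rw [Pi.add_apply, e', CharTwo.add_self_eq_zero]; rfl
            · simp [hk, hy φ hne'])
          have h3 := D.free_section (N := A) h.stable (k := l * k⁻¹)
            (fun h => hne (mul_inv_eq_one.1 h).symm) (x := (k : MulAut P) y) (by
              have e2 : ((l * k⁻¹ : D.K) : MulAut P) ((k : MulAut P) y) = (l : MulAut P) y := by
                show (l : MulAut P) (((k⁻¹ * k : D.K) : MulAut P) y) = _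
                rw [inv_mul_cancel]; rfl
              rw [e2]; exact hmem)
          have := h.stable k⁻¹ _ h3
          exact hyA (by simpa using this)
        · exact Nat.card_congr (Equiv.ofBijective _ C.μ_bij)
      obtain ⟨k, hk'⟩ := hm.2 (Units.mk0 s hs)
      exact ⟨(k : MulAut P) y, congrArg Units.val hk', fun φ hne => by rw [hk, hy φ hne, mul_zero]⟩
    choose w hwψ hw0 using hsurj
    let g : F → F := fun s => β (w s) z
    have hdep : ∀ a b : P, c a = c b → β a z = β b z := fun a b e => by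
      have hm : a⁻¹ * b ∈ A := (hzero _).1 (by
        rw [hmul, hinv, e]; funext φ; exact CharTwo.add_self_eq_zero _)
      rw [show b = a * (a⁻¹ * b) by group, hβl, hsymm (a⁻¹ * b), hβA z _ hm, add_zero]
    have hext : ∀ a b : P, c a ψ = c b ψ → (∀ φ, φ ≠ ψ → c a φ = 0) → (∀ φ, φ ≠ ψ → c b φ = 0) →
        c a = c b := fun a b e ha hb => funext fun φ => by
      rcases eq_or_ne φ ψ with rfl | hne
      · exact e
      · rw [ha φ hne, hb φ hne]
    have hgadd : ∀ s t, g (s + t) = g s + g t := fun s t => by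
      show β (w (s + t)) z = β (w s) z + β (w t) z
      rw [← hβl]
      refine hdep _ _ (hext _ _ (by rw [hmul, Pi.add_apply, hwψ, hwψ, hwψ]) (hw0 _) fun φ hne => ?_)
      rw [hmul, Pi.add_apply, hw0 s φ hne, hw0 t φ hne, add_zero]
    have hgfix : ∀ s, g s ≠ 0 → s * ψ (g s) = g s := fun s _ => by
      have e := hfix (w s) (haxis _ ⟨ψ, hw0 s⟩) z
      rw [hsingle (hw0 s), hwψ] at e
      exact e
    have hgy : g (c y ψ) = β y z := hdep _ _ (hext _ _ (hwψ _) (hw0 _) hy)
    have hker : ∀ s, g s = 0 → s = 0 := by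
      intro s hs
      have e1 := hgfix (c y ψ) (hgy ▸ hb)
      have e2 := hgfix (c y ψ + s) (by rw [hgadd, hs, add_zero, hgy]; exact hb)
      rw [hgadd, hs, add_zero, add_mul, e1] at e2
      exact (mul_eq_zero.1 (left_eq_add.1 e2.symm)).resolve_right (by
        rw [hgy]; simpa using hb)
    have hginj : Function.Injective g := fun s t e => by
      have := hker (s + t) (by rw [hgadd, e, CharTwo.add_self_eq_zero])
      exact CharTwo.add_eq_zero.1 this
    have hzA : z * z ∈ D.V := haxis z ⟨φz, hz⟩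
    have hid : ∀ x, c z φz * φz x = x := fun x => by
      obtain ⟨s, rfl⟩ := (Finite.injective_iff_surjective.1 hginj) x
      have e := hfix z hzA (w s)
      rw [hsingle hz, hsymm z] at e
      exact e
    have h1 : c z φz = 1 := by simpa using hid 1
    have hφ : φz = RingEquiv.refl F := RingEquiv.ext fun x => by simpa [h1] using hid x
    rw [hφ, hrefl] at h1
    exact zero_ne_one h1
  have hβall : ∀ y z, β y z = 0 := by
    have step : ∀ y ∈ Axis, ∀ z, β y z = 0 := fun y hy z => by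
      induction (hgen ▸ Subgroup.mem_top z : z ∈ Subgroup.closure Axis) using
        Subgroup.closure_induction with
      | mem x hx => exact haxis0 y hy x hx
      | one => exact hβ1 y
      | mul a b _ _ ha hb => rw [hβr, ha, hb, add_zero]
      | inv a _ ha =>
        have e := hβr y a⁻¹ a
        rw [inv_mul_cancel, hβ1, ha, add_zero] at e
        exact e.symm
    intro y z
    induction (hgen ▸ Subgroup.mem_top y : y ∈ Subgroup.closure Axis) using
      Subgroup.closure_induction with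
    | mem x hx => exact step x hx z
    | one => rw [hsymm]; exact hβ1 z
    | mul a b _ _ ha hb => rw [hβl, ha, hb, add_zero]
    | inv a _ ha =>
      have e := hβl a⁻¹ a z
      rw [inv_mul_cancel, hsymm, hβ1, ha, add_zero] at e
      exact e.symm
  induction (hgen ▸ Subgroup.mem_top y : y ∈ Subgroup.closure Axis) using
    Subgroup.closure_induction with
  | mem x hx => exact haxis x hx
  | one => rw [one_mul]; exact one_mem _
  | mul a b _ _ ha hb =>
    rw [D.mem_V] at ha hb ⊢
    have e : a * b * (a * b) = (a * δ b a * a⁻¹) * (a * a) * (b * b) := by simp only [δ]; group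
    have hA1 := h.conj_mem a (hδA b a)
    refine C.co_eq_zero (hfour (a * b)) ?_
    rw [e, hsqmul _ (A.mul_mem hA1 (hlay a).1) _ (hlay b).1, hsqmul _ hA1 _ (hlay a).1,
      hconjsq a _ (hδA b a), ha, hb, C.co_one, add_zero, add_zero]
    exact hβall b a
  | inv a _ ha =>
    rw [show a⁻¹ * a⁻¹ = (a * a)⁻¹ by group]
    exact inv_mem ha

end Cfsg.Agent.Suzuki2.Datum
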