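/-
Higman: squares and commutators are involutions, the order is `q ^ 2` or `q ^ 3`.
-/
import Cfsg.Agent.Lib.Suzuki2.ClassElem
import Cfsg.Agent.Lib.Suzuki2.ClassQuad

set_option autoImplicit false

namespace Cfsg.Agent.Suzuki2.Datum

open Subgroup

universe u

variable {P : Type u} [Group P] [Finite P]

/-- All squares are involutions. -/
theorem sq_mem_V (D : Datum P) (hna : ∃ x y : P, x * y ≠ y * x) (x : P) : x * x ∈ D.V := by
  obtain ⟨A, h, -, hmax⟩ := exists_maximal_inv _ (V_inv (D := D))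
  obtain ⟨f, hh⟩ := h.exists_homo
  have htop : A ≠ ⊤ := fun e => by
    obtain ⟨x, y, hxy⟩ := hna
    exact hxy (h.comm x (e ▸ Subgroup.mem_top x) y (e ▸ Subgroup.mem_top y))
  have hf := exponent_le_four h hmax hh htop
  have hf1 := hh.pos
  obtain rfl | rfl : f = 1 ∨ f = 2 := by omega
  · have hA : A = D.V := le_antisymm (fun a ha => D.mem_V.2 (by
      have e := hh.exp a ha
      rwa [pow_one, pow_two] at e)) h.vle
    refine sq_mem_of_max_eq (fun B hB => ?_) x
    rw [← hA]
    exact hmax B hB (hA ▸ hB.vle)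
  · exact sq_mem_of_exp_four h hmax hh x

theorem comm_mem_V (D : Datum P) (hna : ∃ x y : P, x * y ≠ y * x) (x y : P) :
    x * y * x⁻¹ * y⁻¹ ∈ D.V :=
  D.mul_comm_of_sq (D.sq_mem_V hna x) (D.sq_mem_V hna y) (D.sq_mem_V hna _)

theorem center_eq_V (D : Datum P) (hna : ∃ x y : P, x * y ≠ y * x) : Subgroup.center P = D.V :=
  Subgroup.ext fun x => D.mem_center_iff hna x

/-- The regular group acts freely outside the involutions of the factor group. -/
theorem card_K_dvd (D : Datum P) : Nat.card D.K ∣ Nat.card (P ⧸ D.V) - 1 := by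
  classical
  letI act : MulAction D.K {a : P ⧸ D.V // a ≠ 1} :=
    { smul := fun k a => ⟨QuotientGroup.map D.V D.V (k : MulAut P).toMonoidHom
          (fun v hv => D.map_V _ hv) a.1, fun e => by
        obtain ⟨x, hx⟩ := QuotientGroup.mk_surjective a.1
        rw [← hx] at e
        change (((k : MulAut P) x : P) : P ⧸ D.V) = 1 at e
        rw [QuotientGroup.eq_one_iff] at e
        refine a.2 ?_
        rw [← hx, QuotientGroup.eq_one_iff]
        have := D.map_V ((k⁻¹ : D.K) : MulAut P) e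
        simpa using this⟩
      one_smul := fun a => Subtype.ext (by
        obtain ⟨x, hx⟩ := QuotientGroup.mk_surjective a.1
        show QuotientGroup.map D.V D.V _ _ a.1 = a.1
        rw [← hx]; rfl)
      mul_smul := fun k l a => Subtype.ext (by
        obtain ⟨x, hx⟩ := QuotientGroup.mk_surjective a.1
        show QuotientGroup.map D.V D.V _ _ a.1 =
          QuotientGroup.map D.V D.V _ _ (QuotientGroup.map D.V D.V _ _ a.1)
        rw [← hx]; rfl) }
  have hfree : ∀ a : {a : P ⧸ D.V // a ≠ 1}, MulAction.stabilizer D.K a = ⊥ := by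
    intro a
    rw [Subgroup.eq_bot_iff_forall]
    intro k hk
    obtain ⟨x, hx⟩ := QuotientGroup.mk_surjective a.1
    by_contra hk1
    have e : QuotientGroup.map D.V D.V (k : MulAut P).toMonoidHom (fun v hv => D.map_V _ hv) a.1 = a.1 :=
      congrArg Subtype.val (MulAction.mem_stabilizer_iff.1 hk)
    rw [← hx] at e
    change (((k : MulAut P) x : P) : P ⧸ D.V) = x at e
    rw [eq_comm, QuotientGroup.eq] at e
    exact a.2 (hx ▸ (QuotientGroup.eq_one_iff x).2 (D.free_section D.V_stable hk1 e))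
  have hcard := Nat.card_congr (MulAction.selfEquivOrbitsQuotientProd hfree)
  rw [Nat.card_prod] at hcard
  haveI := Fintype.ofFinite (P ⧸ D.V)
  have e : Nat.card {a : P ⧸ D.V // a ≠ 1} = Nat.card (P ⧸ D.V) - 1 := by
    rw [Nat.card_eq_fintype_card, Nat.card_eq_fintype_card, Fintype.card_subtype_compl,
      Fintype.card_subtype_eq]
  exact ⟨_, e.symm.trans (hcard.trans (mul_comm _ _))⟩

theorem card_eq (D : Datum P) (hna : ∃ x y : P, x * y ≠ y * x) :
    Nat.card P = Nat.card D.V ^ 2 ∨ Nat.card P = Nat.card D.V ^ 3 := by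
  classical
  have hub : Nat.card P ≤ Nat.card D.V ^ 3 := by
    have := D.card_le_cube (M := ⊤) le_top fun x _ => D.sq_mem_V hna x
    rwa [Subgroup.card_top] at this
  obtain ⟨x, hx⟩ : ∃ x, x ∉ D.V := by
    obtain ⟨x, y, hxy⟩ := hna
    exact ⟨x, fun h => hxy (D.V_central h y).symm⟩
  have hlb := D.card_jump (M := ⊤) D.V_stable (fun k a _ => Subgroup.mem_top _) le_top
    (Subgroup.mem_top x) hx
  rw [D.card_K_add_one, Subgroup.card_top] at hlb
  haveI : Fact (Nat.Prime 2) := ⟨Nat.prime_two⟩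
  obtain ⟨n, hn⟩ := IsPGroup.iff_card.1 (D.isp.to_subgroup D.V)
  obtain ⟨m, hm⟩ := IsPGroup.iff_card.1 (D.isp.to_quotient D.V)
  have hP := Subgroup.card_eq_card_quotient_mul_card_subgroup D.V
  rw [hn, hm] at hP
  rw [hn] at hlb hub ⊢
  rw [hP, ← pow_add, ← pow_add, Nat.pow_le_pow_iff_right (by norm_num)] at hlb
  rw [hP, ← pow_add, ← pow_mul, Nat.pow_le_pow_iff_right (by norm_num)] at hub
  have hdvd : 2 ^ n - 1 ∣ 2 ^ m - 1 := by
    have := D.card_K_dvd
    rwa [hm, show Nat.card D.K = 2 ^ n - 1 by have := D.card_K_add_one; omega] at this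
  have hgcd := Nat.pow_sub_one_gcd_pow_sub_one 2 n m
  rw [Nat.gcd_eq_left hdvd] at hgcd
  have hng : n = Nat.gcd n m := by
    refine Nat.pow_right_injective le_rfl ?_
    have h1 := Nat.two_pow_pos n
    have h2 := Nat.two_pow_pos (Nat.gcd n m)
    show 2 ^ n = 2 ^ Nat.gcd n m
    omega
  obtain ⟨t, rfl⟩ : n ∣ m := hng ▸ Nat.gcd_dvd_right n m
  rw [hP, ← pow_add, ← pow_mul, ← pow_mul]
  have hnpos : 0 < n := Nat.pos_of_ne_zero fun h => by
    subst h
    have h2 := two_le_card_K (D := D)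
    have := D.card_K_add_one
    rw [hn, pow_zero] at this
    omega
  have ht1 : 1 ≤ t := Nat.pos_of_ne_zero fun h => by subst h; omega
  have ht2 : t ≤ 2 := Nat.le_of_mul_le_mul_left (by omega : n * t ≤ n * 2) hnpos
  obtain rfl | rfl : t = 1 ∨ t = 2 := by omega
  · exact Or.inl (by congr 1 <;> omega)
  · exact Or.inr (by congr 1 <;> omega)

theorem exponent_eq (D : Datum P) (hna : ∃ x y : P, x * y ≠ y * x) : Monoid.exponent P = 4 := by
  haveI : Fact (Nat.Prime 2) := ⟨Nat.prime_two⟩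
  have h4 : ∀ g : P, g ^ 4 = 1 := fun g => by
    rw [show 4 = 2 * 2 by norm_num, pow_mul, pow_two, pow_two]
    exact D.mem_V.1 (D.sq_mem_V hna g)
  obtain ⟨x, hx⟩ : ∃ x : P, x * x ≠ 1 := by
    by_contra! h
    obtain ⟨x, y, hxy⟩ := hna
    exact hxy (D.V_central (D.mem_V.2 (h x)) y).symm
  have hdvd : Monoid.exponent P ∣ 2 ^ 2 := by
    rw [Monoid.exponent_dvd_iff_forall_pow_eq_one]; simpa using h4
  obtain ⟨i, hi, hexp⟩ := (Nat.dvd_prime_pow Nat.prime_two).1 hdvd
  have hne : i = 2 := by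
    by_contra hne
    have hi1 : i ≤ 1 := by omega
    apply hx
    have e := Monoid.pow_exponent_eq_one x
    rw [← pow_two]
    obtain ⟨j, hj⟩ := Nat.exists_eq_add_of_le hi1
    rw [show (2 : ℕ) = 2 ^ i * 2 ^ j by rw [← pow_add, ← hj, pow_one], pow_mul, ← hexp, e, one_pow]
  rw [hexp, hne]; norm_num

end Cfsg.Agent.Suzuki2.Datum
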