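/-
The model group of type A, and the comparison of two central extensions by their squares.
-/
import Cfsg.Prelude.Def_LieRecognition
import Mathlib

set_option autoImplicit false

namespace Cfsg.Agent.Suzuki2

universe u v w x

/-- A subgroup of a group of exponent two has a complement. -/
theorem exists_complement_of_sq {E : Type u} [Group E] [Finite E] (hsq : ∀ e : E, e * e = 1)
    (V : Subgroup E) : ∃ W : Subgroup E, W ⊓ V = ⊥ ∧ W ⊔ V = ⊤ := by
  classical
  haveI := Fintype.ofFinite (Subgroup E)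
  have hcomm : ∀ a b : E, a * b = b * a := fun a b => by
    have ha := inv_eq_of_mul_eq_one_right (hsq a)
    have hb := inv_eq_of_mul_eq_one_right (hsq b)
    have hab := inv_eq_of_mul_eq_one_right (hsq (a * b))
    rw [mul_inv_rev, ha, hb] at hab
    exact hab.symm
  obtain ⟨W, hW, hmax⟩ := (Finset.univ.filter fun W : Subgroup E => W ⊓ V = ⊥).exists_maximal
    ⟨⊥, by simp⟩
  rw [Finset.mem_filter] at hW
  refine ⟨W, hW.2, eq_top_iff.2 fun e _ => ?_⟩
  by_contra he
  have heW : e ∉ W := fun h => he (Subgroup.mem_sup_left h)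
  let W' : Subgroup E :=
    { carrier := {z | z ∈ W ∨ z * e ∈ W}
      one_mem' := Or.inl (one_mem _)
      mul_mem' := fun {a b} ha hb => by
        rcases ha with ha | ha <;> rcases hb with hb | hb
        · exact Or.inl (mul_mem ha hb)
        · exact Or.inr (by rw [mul_assoc]; exact mul_mem ha hb)
        · exact Or.inr (by rw [mul_assoc, hcomm b e, ← mul_assoc]; exact mul_mem ha hb)
        · refine Or.inl ?_
          have h2 : a * e * (b * e) = a * b := by
            rw [hcomm b e, mul_assoc, ← mul_assoc e e b, hsq, one_mul]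
          exact h2 ▸ mul_mem ha hb
      inv_mem' := fun {a} ha => by
        simp only [Set.mem_setOf_eq] at ha ⊢
        rw [inv_eq_of_mul_eq_one_right (hsq a)]
        exact ha }
  have hle : W ≤ W' := fun z hz => Or.inl hz
  have hW' : W' ⊓ V = ⊥ := by
    refine eq_bot_iff.2 fun z hz => ?_
    obtain ⟨hz', hzV⟩ := Subgroup.mem_inf.1 hz
    rcases hz' with hz' | hz'
    · exact hW.2 ▸ Subgroup.mem_inf.2 ⟨hz', hzV⟩
    · exfalso
      apply he
      have := Subgroup.mul_mem_sup hz' hzV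
      rwa [hcomm z e, mul_assoc, hsq, mul_one] at this
  have hem : e ∈ W' := Or.inr (by rw [hsq]; exact one_mem _)
  exact heW (hmax (Finset.mem_filter.2 ⟨Finset.mem_univ _, hW'⟩) hle hem)

/-- Two central extensions of groups of exponent two with the same squares are isomorphic. -/
theorem iso_of_squares {P : Type u} [Group P] [Finite P] {R : Type v} [Group R] [Finite R]
    {A : Type w} [Group A] {V : Type x} [Group V]
    (π : P →* A) (ρ : R →* A) (iP : V →* P) (iR : V →* R)
    (hπs : Function.Surjective π) (hρs : Function.Surjective ρ)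
    (hiP : Function.Injective iP) (hiR : Function.Injective iR)
    (hπk : π.ker = iP.range) (hρk : ρ.ker = iR.range)
    (hPc : iP.range ≤ Subgroup.center P) (hRc : iR.range ≤ Subgroup.center R)
    (hsq : ∀ p r, π p = ρ r → ∃ v, p * p = iP v ∧ r * r = iR v) : Nonempty (P ≃* R) := by
  classical
  let H : Subgroup (P × R) := MonoidHom.eqLocus (π.comp (MonoidHom.fst P R)) (ρ.comp (MonoidHom.snd P R))
  have hH : ∀ z : P × R, z ∈ H ↔ π z.1 = ρ z.2 := fun z => Iff.rfl
  have hπv : ∀ v, π (iP v) = 1 := fun v =>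
    MonoidHom.mem_ker.1 (hπk ▸ MonoidHom.mem_range.2 ⟨v, rfl⟩)
  have hρv : ∀ v, ρ (iR v) = 1 := fun v =>
    MonoidHom.mem_ker.1 (hρk ▸ MonoidHom.mem_range.2 ⟨v, rfl⟩)
  let δ : V →* H := (iP.prod iR).codRestrict H fun v => (hH _).2 (by simp [hπv, hρv])
  haveI hN : δ.range.Normal := ⟨fun n hn g => by
    obtain ⟨v, rfl⟩ := hn
    have e : g * δ v * g⁻¹ = δ v := by
      refine Subtype.ext (Prod.ext ?_ ?_)
      · show (g : P × R).1 * iP v * ((g : P × R).1)⁻¹ = iP v
        rw [Subgroup.mem_center_iff.1 (hPc ⟨v, rfl⟩) _, mul_inv_cancel_right]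
      · show (g : P × R).2 * iR v * ((g : P × R).2)⁻¹ = iR v
        rw [Subgroup.mem_center_iff.1 (hRc ⟨v, rfl⟩) _, mul_inv_cancel_right]
    rw [e]; exact ⟨v, rfl⟩⟩
  have hEsq : ∀ e : H ⧸ δ.range, e * e = 1 := fun e => by
    obtain ⟨⟨⟨p, r⟩, hpr⟩, rfl⟩ := QuotientGroup.mk_surjective e
    obtain ⟨v, hp, hr⟩ := hsq p r hpr
    rw [← QuotientGroup.mk_mul, QuotientGroup.eq_one_iff]
    exact ⟨v, Subtype.ext (Prod.ext hp.symm hr.symm)⟩
  let j : V →* H := (iP.prod 1).codRestrict H fun v => (hH _).2 (by simp [hπv])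
  set V1 := j.range.map (QuotientGroup.mk' δ.range) with hV1
  obtain ⟨W, hWV, hWV'⟩ := exists_complement_of_sq hEsq V1
  set W' := (W.comap (QuotientGroup.mk' δ.range)).map H.subtype with hW'
  have hδW : ∀ v, ((δ v : H) : P × R) ∈ W' := fun v => Subgroup.mem_map.2 ⟨δ v, by
    show ((δ v : H) : H ⧸ δ.range) ∈ W
    rw [(QuotientGroup.eq_one_iff (N := δ.range) (δ v)).2 ⟨v, rfl⟩]; exact one_mem _, rfl⟩
  -- no element of `W'` is `(iP v, 1)`
  have hkey : ∀ v, ((iP v, (1 : R)) : P × R) ∈ W' → v = 1 := by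
    rintro v ⟨w, hw, hwv⟩
    have hwj : w = j v := Subtype.ext hwv
    subst hwj
    have h1 : ((j v : H) : H ⧸ δ.range) ∈ W ⊓ V1 :=
      Subgroup.mem_inf.2 ⟨hw, ⟨j v, ⟨v, rfl⟩, rfl⟩⟩
    rw [hWV, Subgroup.mem_bot, QuotientGroup.eq_one_iff] at h1
    obtain ⟨v', hv'⟩ := h1
    have e1 : iP v' = iP v := congrArg (fun z : H => z.1.1) hv'
    have e2 : iR v' = 1 := congrArg (fun z : H => z.1.2) hv'
    rw [← hiP e1]
    exact hiR (e2.trans (map_one iR).symm)
  have hfst : Function.Surjective ((MonoidHom.fst P R).comp W'.subtype) := by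
    intro p
    obtain ⟨r, hr⟩ := hρs (π p)
    let z : H := ⟨(p, r), hr.symm⟩
    have hz : (z : H ⧸ δ.range) ∈ W ⊔ V1 := hWV' ▸ Subgroup.mem_top _
    haveI : V1.Normal := ⟨fun n hn g => by
      have hc : ∀ a b : H ⧸ δ.range, a * b = b * a := fun a b => by
        have ha := inv_eq_of_mul_eq_one_right (hEsq a)
        have hb := inv_eq_of_mul_eq_one_right (hEsq b)
        have hab := inv_eq_of_mul_eq_one_right (hEsq (a * b))
        rw [mul_inv_rev, ha, hb] at hab
        exact hab.symm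
      rwa [hc g, mul_inv_cancel_right]⟩
    obtain ⟨w, hw, w1, hw1, hww⟩ := Subgroup.mem_sup_of_normal_right.1 hz
    obtain ⟨_, ⟨v, rfl⟩, rfl⟩ := hw1
    have hm : ((z * (j v)⁻¹ : H) : P × R) ∈ W' := by
      refine Subgroup.mem_map.2 ⟨z * (j v)⁻¹, ?_, rfl⟩
      show ((z * (j v)⁻¹ : H) : H ⧸ δ.range) ∈ W
      rw [QuotientGroup.mk_mul, QuotientGroup.mk_inv, ← hww]
      show w * (j v : H ⧸ δ.range) * (j v : H ⧸ δ.range)⁻¹ ∈ W
      rwa [mul_inv_cancel_right]
    refine ⟨⟨_, W'.mul_mem hm (hδW v)⟩, ?_⟩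
    show p * (iP v)⁻¹ * iP v = p
    rw [inv_mul_cancel_right]
  have hsnd : Function.Injective ((MonoidHom.snd P R).comp W'.subtype) := by
    refine (injective_iff_map_eq_one _).2 fun ⟨⟨p, r⟩, hpr⟩ h => ?_
    have hr : r = 1 := h
    subst hr
    obtain ⟨z, hz, hze⟩ := hpr
    have hp : π p = 1 := by
      have e := z.2
      rw [show (z : P × R) = (p, 1) from hze] at e
      exact e.trans (map_one ρ)
    obtain ⟨v, rfl⟩ := MonoidHom.mem_range.1 (hπk ▸ MonoidHom.mem_ker.2 hp)
    refine Subtype.ext (Prod.ext ?_ rfl)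
    show iP v = 1
    rw [hkey v ⟨z, hz, hze⟩, map_one]
  have hfinj : Function.Injective ((MonoidHom.fst P R).comp W'.subtype) := by
    refine (injective_iff_map_eq_one _).2 fun ⟨⟨p, r⟩, hpr⟩ h => ?_
    have hp : p = 1 := h
    subst hp
    obtain ⟨z, hz, hze⟩ := hpr
    have hr : ρ r = 1 := by
      have e := z.2
      rw [show (z : P × R) = (1, r) from hze] at e
      exact e.symm.trans (map_one π)
    obtain ⟨v, rfl⟩ := MonoidHom.mem_range.1 (hρk ▸ MonoidHom.mem_ker.2 hr)
    have hmem : ((iP v, (1 : R)) : P × R) ∈ W' := by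
      have := W'.mul_mem (hδW v) (W'.inv_mem (⟨z, hz, hze⟩ : ((1 : P), iR v) ∈ W'))
      simpa [δ] using this
    refine Subtype.ext (Prod.ext rfl ?_)
    show iR v = 1
    rw [hkey v hmem, map_one]
  have hcard : Nat.card W' = Nat.card R := by
    rw [Nat.card_congr (Equiv.ofBijective _ ⟨hfinj, hfst⟩),
      Subgroup.card_eq_card_quotient_mul_card_subgroup π.ker,
      Subgroup.card_eq_card_quotient_mul_card_subgroup ρ.ker,
      Nat.card_congr (QuotientGroup.quotientKerEquivOfSurjective π hπs).toEquiv,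
      Nat.card_congr (QuotientGroup.quotientKerEquivOfSurjective ρ hρs).toEquiv, hπk, hρk,
      Nat.card_congr (MonoidHom.ofInjective hiP).toEquiv.symm,
      Nat.card_congr (MonoidHom.ofInjective hiR).toEquiv.symm]
  have hsbij : Function.Bijective ((MonoidHom.snd P R).comp W'.subtype) :=
    (Nat.bijective_iff_injective_and_card _).2 ⟨hsnd, hcard⟩
  exact ⟨(MulEquiv.ofBijective _ ⟨hfinj, hfst⟩).symm.trans (MulEquiv.ofBijective _ hsbij)⟩

section Model

variable {F : Type*} [Field F] (φ : F →+* F)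

/-- The matrix with the given coordinates. -/
def typeAElt (x y : F) : GL (Fin 3) F where
  val := !![1, 0, 0; x, 1, 0; y, φ x, 1]
  inv := !![1, 0, 0; -x, 1, 0; -y + φ x * x, -φ x, 1]
  val_inv := by
    ext i j
    fin_cases i <;> fin_cases j <;>
      simp [Matrix.mul_apply, Fin.sum_univ_three] <;> ring
  inv_val := by
    ext i j
    fin_cases i <;> fin_cases j <;>
      simp [Matrix.mul_apply, Fin.sum_univ_three] <;> ring

theorem typeAElt_mul (x y x' y' : F) :
    typeAElt φ x y * typeAElt φ x' y' = typeAElt φ (x + x') (y + y' + φ x * x') := by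
  refine Units.ext ?_
  show (!![1, 0, 0; x, 1, 0; y, φ x, 1] : Matrix (Fin 3) (Fin 3) F) * !![1, 0, 0; x', 1, 0; y', φ x', 1] = _
  ext i j
  fin_cases i <;> fin_cases j <;>
    simp [typeAElt, Matrix.mul_apply, Fin.sum_univ_three, map_add] <;> ring

theorem typeAElt_zero : typeAElt φ 0 0 = 1 := by
  refine Units.ext ?_
  ext i j
  fin_cases i <;> fin_cases j <;> simp [typeAElt]

theorem typeAElt_inj {x y x' y' : F} (h : typeAElt φ x y = typeAElt φ x' y') : x = x' ∧ y = y' := by
  constructor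
  · simpa [typeAElt] using congrArg (fun g : GL (Fin 3) F => (g : Matrix (Fin 3) (Fin 3) F) 1 0) h
  · simpa [typeAElt] using congrArg (fun g : GL (Fin 3) F => (g : Matrix (Fin 3) (Fin 3) F) 2 0) h

/-- The subgroup of all coordinates. -/
def typeASub : Subgroup (GL (Fin 3) F) where
  carrier := {g | ∃ x y, g = typeAElt φ x y}
  one_mem' := ⟨0, 0, (typeAElt_zero φ).symm⟩
  mul_mem' := by
    rintro _ _ ⟨x, y, rfl⟩ ⟨x', y', rfl⟩
    exact ⟨_, _, typeAElt_mul φ x y x' y'⟩
  inv_mem' := by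
    rintro _ ⟨x, y, rfl⟩
    refine ⟨-x, -y + φ x * x, inv_eq_of_mul_eq_one_right ?_⟩
    rw [typeAElt_mul, ← typeAElt_zero φ]
    congr 1 <;> ring

theorem typeASub_eq : Cfsg.suzukiTypeA F φ = typeASub φ := by
  refine le_antisymm ((Subgroup.closure_le _).2 ?_) ?_
  · rintro g ⟨x, y, h⟩
    exact ⟨x, y, Units.ext h⟩
  · rintro _ ⟨x, y, rfl⟩
    exact Subgroup.subset_closure ⟨x, y, rfl⟩

variable [CharP F 2]

/-- A group with the squares `x * φ x` is isomorphic to the model. -/
theorem iso_typeA [Fintype F] {P : Type u} [Group P] [Finite P]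
    (π : P →* Multiplicative F) (ι : Multiplicative F →* P) (hπs : Function.Surjective π)
    (hι : Function.Injective ι) (hker : π.ker = ι.range) (hc : ι.range ≤ Subgroup.center P)
    (hsq : ∀ p : P, p * p = ι (Multiplicative.ofAdd ((π p).toAdd * φ (π p).toAdd))) :
    Nonempty (P ≃* Cfsg.suzukiTypeA F φ) := by
  rw [typeASub_eq]
  have hmk : ∀ x y, typeAElt φ x y ∈ typeASub φ := fun x y => ⟨x, y, rfl⟩
  have hrep : ∀ g : typeASub φ, ∃ x y, g = ⟨typeAElt φ x y, hmk x y⟩ := fun g => by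
    obtain ⟨x, y, h⟩ := g.2
    exact ⟨x, y, Subtype.ext h⟩
  choose cx cy hcxy using hrep
  have hcx : ∀ x y, cx ⟨typeAElt φ x y, hmk x y⟩ = x ∧ cy ⟨typeAElt φ x y, hmk x y⟩ = y := fun x y =>
    typeAElt_inj φ (congrArg Subtype.val (hcxy ⟨typeAElt φ x y, hmk x y⟩)).symm
  have hmul : ∀ g g' : typeASub φ, cx (g * g') = cx g + cx g' := fun g g' => by
    conv_lhs => rw [hcxy g, hcxy g']
    rw [show (⟨typeAElt φ (cx g) (cy g), hmk _ _⟩ : typeASub φ) * ⟨typeAElt φ (cx g') (cy g'), hmk _ _⟩ =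
      ⟨typeAElt φ _ _, hmk _ _⟩ from Subtype.ext (typeAElt_mul φ _ _ _ _)]
    exact (hcx _ _).1
  let ρ : typeASub φ →* Multiplicative F :=
    MonoidHom.mk' (fun g => Multiplicative.ofAdd (cx g)) fun g g' => by
      rw [hmul, ofAdd_add]
  let iR : Multiplicative F →* typeASub φ :=
    MonoidHom.mk' (fun v => ⟨typeAElt φ 0 v.toAdd, hmk _ _⟩) fun v v' => Subtype.ext (by
      show typeAElt φ 0 (v * v').toAdd = typeAElt φ 0 v.toAdd * typeAElt φ 0 v'.toAdd
      rw [typeAElt_mul, toAdd_mul]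
      simp)
  haveI : Finite (typeASub φ) := Finite.of_injective (fun g => (cx g, cy g)) fun g g' e => by
    rw [hcxy g, hcxy g']
    have e1 : cx g = cx g' := congrArg Prod.fst e
    have e2 : cy g = cy g' := congrArg Prod.snd e
    simp only [e1, e2]
  refine iso_of_squares π ρ ι iR hπs (fun a => ⟨⟨typeAElt φ a.toAdd 0, hmk _ _⟩, ?_⟩) hι ?_ hker ?_ hc ?_ ?_
  · show Multiplicative.ofAdd _ = a
    rw [(hcx _ _).1, ofAdd_toAdd]
  · intro v v' e
    exact Multiplicative.toAdd.injective (typeAElt_inj φ (congrArg Subtype.val e)).2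
  · refine Subgroup.ext fun g => ?_
    constructor
    · intro hg
      have h0 : cx g = 0 := Multiplicative.ofAdd.injective (MonoidHom.mem_ker.1 hg)
      refine ⟨Multiplicative.ofAdd (cy g), Eq.trans (Subtype.ext ?_) (hcxy g).symm⟩
      show typeAElt φ 0 (cy g) = typeAElt φ (cx g) (cy g)
      rw [h0]
    · rintro ⟨v, rfl⟩
      show Multiplicative.ofAdd _ = 1
      rw [show cx (iR v) = 0 from (hcx 0 v.toAdd).1]
      rfl
  · rintro _ ⟨v, rfl⟩
    refine Subgroup.mem_center_iff.2 fun g => Subtype.ext ?_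
    rw [hcxy g]
    show typeAElt φ _ _ * typeAElt φ 0 v.toAdd = typeAElt φ 0 v.toAdd * typeAElt φ _ _
    rw [typeAElt_mul, typeAElt_mul]
    simp [add_comm]
  · intro p r hpr
    refine ⟨_, hsq p, ?_⟩
    have hx : (π p).toAdd = cx r := by rw [hpr]; rfl
    rw [hcxy r]
    refine Subtype.ext ?_
    show typeAElt φ (cx r) (cy r) * typeAElt φ (cx r) (cy r) = typeAElt φ 0 _
    rw [typeAElt_mul, toAdd_ofAdd, hx, CharTwo.add_self_eq_zero, CharTwo.add_self_eq_zero, zero_add,
      mul_comm]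

end Model

end Cfsg.Agent.Suzuki2
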