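/-
Higman: a Suzuki 2-group of order `q ^ 2` is of type A.
-/
import Cfsg.Agent.Lib.Suzuki2.Structure
import Cfsg.Agent.Lib.Suzuki2.TypeAModel
import Cfsg.Agent.Lib.RankOne.FieldMaps

set_option autoImplicit false

namespace Cfsg.Agent.Suzuki2

open Cfsg.Agent.RankOne

universe u v

/-- A multiplicative quadratic map is a product of two automorphisms. -/
theorem quad_monomial {F : Type v} [Field F] [Fintype F] [CharP F 2] (R : F →* F) (h0 : R 0 = 0)
    (B : F →+ F →+ F) (hB : ∀ x y, R (x + y) = R x + R y + B x y) :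
    ∃ σ τ : F ≃+* F, ∀ x, R x = σ x * τ x := by
  classical
  haveI := Fintype.ofFinite (F ≃+* F)
  obtain ⟨c, hc⟩ := FieldMaps.exists_quadratic (fun x => R x) (fun x y z => by
    simp only [hB, map_add, AddMonoidHom.add_apply]
    linear_combination (2 * R x + 2 * R y + 2 * R z + B x y + B x z + B y z) * CharTwo.two_eq_zero (R := F))
  let χ : (F ≃+* F) × (F ≃+* F) → (F →* F) := fun p =>
    (p.1 : F →* F) * (p.2 : F →* F)
  by_contra hne
  push_neg at hne
  have hnot : R ∉ Set.range χ := by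
    rintro ⟨p, hp⟩
    obtain ⟨x, hx⟩ := hne p.1 p.2
    exact hx (DFunLike.congr_fun hp x).symm
  refine (linearIndependent_monoidHom F F).notMem_span_image hnot ?_
  have e : (R : F → F) = ∑ p, c p • (χ p : F → F) := funext fun x => by
    rw [Finset.sum_apply]
    exact hc x
  show (R : F → F) ∈ _
  rw [e]
  exact Submodule.sum_mem _ fun p _ => Submodule.smul_mem _ _
    (Submodule.subset_span ⟨χ p, ⟨p, rfl⟩, rfl⟩)

/-- If `x * φ x` takes the value one only at one then `φ` has odd order. -/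
theorem odd_orderOf_of_injective {F : Type v} [Field F] [Fintype F] (φ : F ≃+* F)
    (h : ∀ x : F, x * φ x = 1 → x = 1) : Odd (orderOf φ) := by
  classical
  haveI : Finite (F ≃+* F) := Finite.of_injective (fun σ => (σ : F → F)) DFunLike.coe_injective
  by_contra hodd
  obtain ⟨m, hm⟩ := Nat.not_odd_iff_even.1 hodd
  by_cases hex : ∃ y : F, φ (φ y) = y ∧ φ y ≠ y
  · obtain ⟨y, hy, hy'⟩ := hex
    have hy0 : y ≠ 0 := fun e => hy' (by rw [e, map_zero])
    have hφy : φ y ≠ 0 := fun e => hy0 (by simpa using e)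
    refine hy' ?_
    have := h (φ y / y) (by rw [map_div₀, hy]; field_simp)
    rwa [div_eq_one_iff_eq hy0] at this
  push_neg at hex
  set H1 : Subgroup (RingAut F) := Subgroup.zpowers φ with hH1
  set H2 : Subgroup (RingAut F) := Subgroup.zpowers (φ * φ) with hH2
  have hfix : ∀ (ψ : RingAut F) (y : F), (∀ g ∈ Subgroup.zpowers ψ, g y = y) ↔ ψ y = y := by
    intro ψ y
    refine ⟨fun hg => hg ψ (Subgroup.mem_zpowers _), fun hy g hg => ?_⟩
    exact (Subgroup.zpowers_le.2 (show ψ ∈ MulAction.stabilizer (RingAut F) y from hy) hg :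
      g ∈ MulAction.stabilizer (RingAut F) y)
  haveI := Fintype.ofFinite H1
  haveI := Fintype.ofFinite H2
  have hfp : FixedPoints.subfield H1 F = FixedPoints.subfield H2 F := by
    ext y
    constructor
    · intro hy g
      have h1 : φ y = y := hy ⟨φ, Subgroup.mem_zpowers φ⟩
      exact (hfix (φ * φ) y).2 (by show φ (φ y) = y; rw [h1, h1]) g.1 g.2
    · intro hy g
      have h1 : φ (φ y) = y := hy ⟨φ * φ, Subgroup.mem_zpowers _⟩
      exact (hfix φ y).2 (hex y h1) g.1 g.2
  have h1 := FixedPoints.finrank_eq_card H1 F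
  have h2 := FixedPoints.finrank_eq_card H2 F
  rw [hfp] at h1
  have hcard : Nat.card H1 = Nat.card H2 := by
    rw [Nat.card_eq_fintype_card, Nat.card_eq_fintype_card]
    exact h1.symm.trans h2
  rw [hH1, hH2, Nat.card_zpowers, Nat.card_zpowers, ← pow_two, orderOf_pow' _ (by norm_num)] at hcard
  have hpos : 0 < orderOf φ := orderOf_pos φ
  have h2dvd : (orderOf φ).gcd 2 = 2 := Nat.gcd_eq_right ⟨m, by omega⟩
  have hcard' : orderOf φ = orderOf φ / (orderOf φ).gcd 2 := hcard
  rw [h2dvd] at hcard'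
  omega

namespace Datum

variable {P : Type u} [Group P] [Finite P]

/-- Coordinates on the involutions and on the factor group with the squaring map equivariant. -/
theorem exists_square_coord (D : Datum P) (hna : ∃ x y : P, x * y ≠ y * x)
    (hcard : Nat.card P = Nat.card D.V ^ 2) :
    ∃ (F : Type) (_ : Field F) (_ : Fintype F) (_ : CharP F 2) (π co : P → F) (el : F → P)
      (Q : F → F) (s : Fˣ →* Fˣ),
      Fintype.card F = Nat.card D.V ∧ (∀ x y, π (x * y) = π x + π y) ∧ (∀ x, π x = 0 ↔ x ∈ D.V) ∧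
      Function.Surjective π ∧ (∀ x, el x ∈ D.V) ∧ (∀ x, co (el x) = x) ∧ (∀ v ∈ D.V, el (co v) = v) ∧
      (∀ v ∈ D.V, ∀ w ∈ D.V, co (v * w) = co v + co w) ∧ (∀ x, co (x * x) = Q (π x)) ∧
      Function.Injective s ∧ ∀ (a : Fˣ) x, Q ((a : F) * x) = (s a : F) * Q x := by
  classical
  haveI : Fact (Nat.Prime 2) := ⟨Nat.prime_two⟩
  letI : CommGroup (P ⧸ D.V) :=
    { (inferInstance : Group (P ⧸ D.V)) with
      mul_comm := fun a b => by
        obtain ⟨x, rfl⟩ := QuotientGroup.mk_surjective a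
        obtain ⟨y, rfl⟩ := QuotientGroup.mk_surjective b
        rw [← QuotientGroup.mk_mul, ← QuotientGroup.mk_mul, QuotientGroup.eq]
        rw [show (x * y)⁻¹ * (y * x) = y⁻¹ * x⁻¹ * y⁻¹⁻¹ * x⁻¹⁻¹ by group]
        exact D.comm_mem_V hna _ _ }
  let act : D.K → P ⧸ D.V → P ⧸ D.V := fun k =>
    QuotientGroup.map D.V D.V (k : MulAut P).toMonoidHom (fun v hv => D.map_V _ hv)
  have hact : ∀ (k : D.K) (x : P), act k (x : P ⧸ D.V) = ((k : MulAut P) x : P) := fun k x => rfl
  have hcardU : Nat.card (P ⧸ D.V) = Nat.card D.V := by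
    have h := Subgroup.card_eq_card_quotient_mul_card_subgroup D.V
    rw [hcard, pow_two] at h
    exact (Nat.eq_of_mul_eq_mul_right Nat.card_pos h).symm
  have hreg : ∀ a b : P ⧸ D.V, a ≠ 1 → b ≠ 1 → ∃! k, act k a = b := by
    intro a b ha hb
    obtain ⟨x, rfl⟩ := QuotientGroup.mk_surjective a
    have hxV : x ∉ D.V := fun h => ha ((QuotientGroup.eq_one_iff x).2 h)
    have hne : ∀ k, act k (x : P ⧸ D.V) ≠ 1 := fun k e => by
      rw [hact, QuotientGroup.eq_one_iff] at e
      refine hxV ?_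
      have := D.map_V ((k⁻¹ : D.K) : MulAut P) e
      simpa using this
    have hinj : Function.Injective (fun k => act k (x : P ⧸ D.V)) := by
      intro k l e
      by_contra hne'
      simp only [hact, QuotientGroup.eq] at e
      have h3 := D.free_section (N := D.V) D.V_stable (k := l * k⁻¹)
        (fun h => hne' (mul_inv_eq_one.1 h).symm) (x := (k : MulAut P) x) (by
          have e2 : ((l * k⁻¹ : D.K) : MulAut P) ((k : MulAut P) x) = (l : MulAut P) x := by
            show (l : MulAut P) (((k⁻¹ * k : D.K) : MulAut P) x) = _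
            rw [inv_mul_cancel]; rfl
          rw [e2]; exact e)
      refine hxV ?_
      have := D.map_V ((k⁻¹ : D.K) : MulAut P) h3
      simpa using this
    haveI := Fintype.ofFinite (P ⧸ D.V)
    haveI := Fintype.ofFinite D.K
    have hbij : Function.Bijective
        (fun k => (⟨act k (x : P ⧸ D.V), hne k⟩ : {z : P ⧸ D.V // z ≠ 1})) := by
      rw [Fintype.bijective_iff_injective_and_card]
      refine ⟨fun k l e => hinj (congrArg Subtype.val e), ?_⟩
      rw [Fintype.card_subtype_compl, Fintype.card_subtype_eq, ← Nat.card_eq_fintype_card,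
        ← Nat.card_eq_fintype_card, hcardU, ← D.card_K_add_one, Nat.add_sub_cancel]
    obtain ⟨k, hk⟩ := hbij.2 ⟨b, hb⟩
    exact ⟨k, congrArg Subtype.val hk, fun l hl => hinj (hl.trans (congrArg Subtype.val hk).symm)⟩
  obtain ⟨x0, hx0⟩ : ∃ x, x ∉ D.V := by
    obtain ⟨x, y, hxy⟩ := hna
    exact ⟨x, fun h => hxy (D.V_central h y).symm⟩
  obtain ⟨FU, _, _, _, e, g, hg⟩ := exists_field (U := Additive (P ⧸ D.V)) (K := D.K)
    (fun k u => Additive.ofMul (act k u.toMul))
    (fun u => by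
      obtain ⟨x, hx⟩ := QuotientGroup.mk_surjective u.toMul
      show Additive.ofMul (act 1 u.toMul) = u
      rw [← hx, hact]
      exact Additive.toMul.injective hx)
    (fun k l u => by
      obtain ⟨x, hx⟩ := QuotientGroup.mk_surjective u.toMul
      show Additive.ofMul (act (k * l) u.toMul) = Additive.ofMul (act k (act l u.toMul))
      rw [← hx, hact, hact, hact]; rfl)
    (fun k u w => congrArg Additive.ofMul (map_mul (QuotientGroup.map D.V D.V _ _) u.toMul w.toMul))
    (fun u => by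
      obtain ⟨x, hx⟩ := QuotientGroup.mk_surjective u.toMul
      refine Additive.toMul.injective ?_
      show u.toMul * u.toMul = 1
      rw [← hx, ← QuotientGroup.mk_mul, QuotientGroup.eq_one_iff]
      exact D.sq_mem_V hna x)
    D.comm
    (fun u w hu hw => by
      obtain ⟨k, hk, hk'⟩ := hreg u.toMul w.toMul (fun e => hu (Additive.toMul.injective e))
        (fun e => hw (Additive.toMul.injective e))
      exact ⟨k, congrArg Additive.ofMul hk, fun l hl => hk' l (congrArg Additive.toMul hl)⟩)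
    ⟨Additive.ofMul (x0 : P ⧸ D.V), fun e => hx0 ((QuotientGroup.eq_one_iff x0).1 (congrArg Additive.toMul e))⟩
  obtain ⟨FV, _, _, _, ⟨C⟩, hFV⟩ := exists_coord D
  obtain ⟨n, hn⟩ := IsPGroup.iff_card.1 (D.isp.to_subgroup D.V)
  have hn0 : n ≠ 0 := fun h => by
    have h2 := two_le_card_K (D := D)
    have := D.card_K_add_one
    rw [hn, h, pow_zero] at this
    omega
  letI : Fintype (GaloisField 2 n) := Fintype.ofFinite _
  have hG : Fintype.card (GaloisField 2 n) = Nat.card D.V := by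
    rw [← Nat.card_eq_fintype_card, GaloisField.card 2 n hn0, hn]
  have h1 : Fintype.card FU = Fintype.card (GaloisField 2 n) := by
    rw [hG, ← Nat.card_eq_fintype_card, ← hcardU]
    exact Nat.card_congr (Additive.ofMul.trans e.toEquiv).symm
  have h2 : Fintype.card FV = Fintype.card (GaloisField 2 n) := by
    rw [hG, ← Nat.card_eq_fintype_card, hFV]
  let ιU := FiniteField.ringEquivOfCardEq (K := FU) (K' := GaloisField 2 n) h1
  let ιV := FiniteField.ringEquivOfCardEq (K := FV) (K' := GaloisField 2 n) h2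
  let π : P → GaloisField 2 n := fun x => ιU (e (Additive.ofMul (x : P ⧸ D.V)))
  let co : P → GaloisField 2 n := fun x => ιV (C.co x)
  have hπadd : ∀ x y, π (x * y) = π x + π y := fun x y => by
    show ιU _ = ιU _ + ιU _
    rw [← map_add, ← map_add]; rfl
  have hπk : ∀ (k : D.K) x, π ((k : MulAut P) x) = ιU (g k : FU) * π x := fun k x => by
    show ιU _ = _ * ιU _
    rw [← map_mul, ← hg]; rfl
  have hπ0 : ∀ x, π x = 0 ↔ x ∈ D.V := fun x => by
    show ιU _ = 0 ↔ _
    rw [map_eq_zero_iff _ ιU.injective, AddEquiv.map_eq_zero_iff, ← QuotientGroup.eq_one_iff]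
    exact ⟨fun e => congrArg Additive.toMul e, fun e => congrArg Additive.ofMul e⟩
  have hπs : Function.Surjective π := fun a => by
    obtain ⟨x, hx⟩ := QuotientGroup.mk_surjective (e.symm (ιU.symm a)).toMul
    exact ⟨x, by show ιU (e (Additive.ofMul _)) = a; rw [hx, ofMul_toMul, e.apply_symm_apply, ιU.apply_symm_apply]⟩
  choose r hr using hπs
  let Q : GaloisField 2 n → GaloisField 2 n := fun a => co (r a * r a)
  have hQ : ∀ x, co (x * x) = Q (π x) := by
    intro x
    have hv : (r (π x))⁻¹ * x ∈ D.V := (hπ0 _).1 (by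
      have e1 := hπadd (r (π x)) ((r (π x))⁻¹ * x)
      rw [mul_inv_cancel_left, hr] at e1
      exact left_eq_add.1 e1)
    show ιV (C.co _) = ιV (C.co _)
    conv_lhs => rw [show x = r (π x) * ((r (π x))⁻¹ * x) by group]
    set v := (r (π x))⁻¹ * x
    set a := r (π x)
    rw [show a * v * (a * v) = a * a * (v * v) by
      calc a * v * (a * v) = a * (v * a) * v := by group
        _ = a * (a * v) * v := by rw [D.V_central hv a]
        _ = _ := by group, D.mem_V.1 hv, mul_one]
  let mV : D.K →* (GaloisField 2 n)ˣ :=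
    (Units.map (ιV : FV →* GaloisField 2 n)).comp (MonoidHom.mk' C.μ C.μ_mul)
  let mU : D.K ≃* (GaloisField 2 n)ˣ := g.trans (Units.mapEquiv ιU.toMulEquiv)
  refine ⟨GaloisField 2 n, inferInstance, inferInstance, inferInstance, π, co, fun a => C.el (ιV.symm a),
    Q, mV.comp mU.symm.toMonoidHom, hG, hπadd, hπ0, fun a => ⟨r a, hr a⟩, fun a => C.el_mem _,
    fun a => ?_, fun v hv => ?_, fun v hv w hw => ?_, hQ, ?_, fun a x => ?_⟩
  · show ιV (C.co (C.el _)) = a
    rw [C.co_el, ιV.apply_symm_apply]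
  · show C.el (ιV.symm (ιV _)) = v
    rw [ιV.symm_apply_apply, C.el_co v hv]
  · show ιV _ = ιV _ + ιV _
    rw [C.co_mul v hv w hw, map_add]
  · exact ((Units.map_injective ιV.injective).comp C.μ_bij.1).comp mU.symm.injective
  · obtain ⟨k, rfl⟩ := mU.surjective a
    show Q _ = ((mV (mU.symm (mU k)) : (GaloisField 2 n)ˣ) : GaloisField 2 n) * Q x
    rw [mU.symm_apply_apply]
    conv_lhs => rw [show x = π (r x) from (hr x).symm]
    rw [show ((mU k : (GaloisField 2 n)ˣ) : GaloisField 2 n) * π (r x) = π ((k : MulAut P) (r x)) from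
      (hπk k (r x)).symm, ← hQ, ← map_mul]
    show ιV (C.co _) = ιV (C.μ k : FV) * ιV (C.co _)
    rw [← map_mul, C.co_k k _ (D.sq_mem_V hna _)]

/-- Higman's theorem for the groups of order `q ^ 2`. -/
theorem exists_typeA (D : Datum P) (hna : ∃ x y : P, x * y ≠ y * x)
    (hcard : Nat.card P = Nat.card D.V ^ 2) :
    ∃ (F : Type) (_ : Field F) (_ : Fintype F) (φ : F ≃+* F), Fintype.card F = Nat.card D.V ∧
      φ ≠ RingEquiv.refl F ∧ Odd (orderOf φ) ∧ Nonempty (P ≃* Cfsg.suzukiTypeA F (φ : F →+* F)) := by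
  classical
  obtain ⟨F, _, _, _, π, co, el, Q, s, hF, hπadd, hπ0, hπs, hel, hcoel, helco, hcomul, hQ, hs, hQs⟩ :=
    exists_square_coord D hna hcard
  have hsq := D.sq_mem_V hna
  have hcoinj : ∀ v ∈ D.V, ∀ w ∈ D.V, co v = co w → v = w := fun v hv w hw e => by
    rw [← helco v hv, e, helco w hw]
  have hco1 : co 1 = 0 := by
    have h := hcomul 1 (one_mem _) 1 (one_mem _)
    rw [one_mul] at h
    exact left_eq_add.1 h
  have hπ1 : π 1 = 0 := (hπ0 1).2 (one_mem _)
  have hQ0 : Q 0 = 0 := by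
    have h := hQ 1
    rw [one_mul, hco1, hπ1] at h
    exact h.symm
  have hQne : ∀ x, x ≠ 0 → Q x ≠ 0 := fun x hx e => by
    obtain ⟨p, rfl⟩ := hπs x
    refine hx ((hπ0 p).2 (D.mem_V.2 (hcoinj _ (hsq p) _ (one_mem _) ?_)))
    rw [hQ, e, hco1]
  set c0 := Q 1 with hc0
  have hc0ne : c0 ≠ 0 := hQne 1 one_ne_zero
  have hR : ∀ a : Fˣ, c0⁻¹ * Q (a : F) = (s a : F) := fun a => by
    have := hQs a 1
    rw [mul_one] at this
    rw [this, ← hc0]; field_simp
  let R : F →* F :=
    { toFun := fun x => c0⁻¹ * Q x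
      map_one' := inv_mul_cancel₀ hc0ne
      map_mul' := fun x y => by
        rcases eq_or_ne x 0 with rfl | hx
        · simp [hQ0]
        rw [show x * y = (Units.mk0 x hx : F) * y from rfl, hQs, ← hR, Units.val_mk0]
        ring }
  let β : P → P → F := fun x y => co (y * x * y⁻¹ * x⁻¹)
  have hcV : ∀ x y : P, y * x * y⁻¹ * x⁻¹ ∈ D.V := fun x y => D.comm_mem_V hna y x
  have hsum : ∀ x y, co (x * y * (x * y)) = co (x * x) + co (y * y) + β x y := by
    intro x y
    have hc := hcV x y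
    have e : x * y * (x * y) = (x * x) * (y * y) * (y * x * y⁻¹ * x⁻¹) := by
      calc x * y * (x * y) = x * (y * x * y⁻¹ * x⁻¹) * (x * (y * y)) := by group
        _ = (y * x * y⁻¹ * x⁻¹) * (x * x * (y * y)) := by rw [D.V_central hc x]; group
        _ = _ := (D.V_central hc _).symm
    rw [e, hcomul _ (mul_mem (hsq x) (hsq y)) _ hc, hcomul _ (hsq x) _ (hsq y)]
  have hβl : ∀ x x' y, β (x * x') y = β x y + β x' y := by
    intro x x' y
    have h2 := hcV x' y
    have e : y * (x * x') * y⁻¹ * (x * x')⁻¹ = (y * x * y⁻¹ * x⁻¹) * (y * x' * y⁻¹ * x'⁻¹) := by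
      calc y * (x * x') * y⁻¹ * (x * x')⁻¹
          = y * x * y⁻¹ * ((y * x' * y⁻¹ * x'⁻¹) * x⁻¹) := by group
        _ = _ := by rw [← D.V_central h2 x⁻¹]; group
    show co _ = co _ + co _
    rw [e, hcomul _ (hcV x y) _ h2]
  have hβ : ∀ x y, β x y = Q (π x + π y) - Q (π x) - Q (π y) := fun x y => by
    rw [← hπadd, ← hQ, ← hQ, ← hQ, hsum]; ring
  have hBl : ∀ a a' b : F, Q (a + a' + b) - Q (a + a') - Q b =
      (Q (a + b) - Q a - Q b) + (Q (a' + b) - Q a' - Q b) := by
    intro a a' b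
    obtain ⟨x, rfl⟩ := hπs a
    obtain ⟨x', rfl⟩ := hπs a'
    obtain ⟨y, rfl⟩ := hπs b
    rw [← hβ, ← hβ, ← hπadd x x', ← hβ, hβl]
  let B : F →+ F →+ F := AddMonoidHom.mk' (fun a => AddMonoidHom.mk'
      (fun b => c0⁻¹ * (Q (a + b) - Q a - Q b)) (fun b b' => by
        rw [← mul_add, add_comm a (b + b'), add_comm a b, add_comm a b']
        exact congrArg _ (by linear_combination hBl b b' a)))
    (fun a a' => AddMonoidHom.ext fun b => by
      show c0⁻¹ * _ = c0⁻¹ * _ + c0⁻¹ * _
      rw [hBl, mul_add])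
  obtain ⟨σ, τ, hστ⟩ := quad_monomial R (show c0⁻¹ * Q 0 = 0 by rw [hQ0, mul_zero]) B (fun a b => by
    show c0⁻¹ * Q (a + b) = c0⁻¹ * Q a + c0⁻¹ * Q b + c0⁻¹ * (Q (a + b) - Q a - Q b)
    ring)
  set φ : F ≃+* F := σ.symm.trans τ with hφ
  have hQeq : ∀ x, Q x = c0 * (σ x * φ (σ x)) := fun x => by
    have e : c0⁻¹ * Q x = σ x * τ x := hστ x
    rw [hφ, RingEquiv.trans_apply, RingEquiv.symm_apply_apply, ← e]
    field_simp
  have hne : φ ≠ RingEquiv.refl F := by
    intro hrefl
    obtain ⟨x, y, hxy⟩ := hna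
    refine hxy (mul_inv_eq_iff_eq_mul.1 (mul_inv_eq_one.1 ?_))
    refine hcoinj _ (hcV y x) _ (one_mem _) ?_
    show β y x = _
    rw [hco1, hβ]
    simp only [hQeq, hrefl, RingEquiv.refl_apply, map_add]
    linear_combination (c0 * σ (π y) * σ (π x)) * CharTwo.two_eq_zero (R := F)
  have hodd : Odd (orderOf φ) := by
    refine odd_orderOf_of_injective φ fun x hx => ?_
    have hx0 : x ≠ 0 := fun e => by rw [e, zero_mul] at hx; exact zero_ne_one hx
    have h1 : c0⁻¹ * Q (σ.symm x) = 1 := by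
      rw [hQeq, σ.apply_symm_apply, hx, mul_one, inv_mul_cancel₀ hc0ne]
    have h2 : s (Units.mk0 (σ.symm x) (by simpa using hx0)) = 1 := Units.ext (by
      rw [← hR, Units.val_mk0, h1, Units.val_one])
    have h3 := congrArg Units.val (hs (h2.trans (map_one s).symm))
    rw [Units.val_mk0, Units.val_one] at h3
    rw [← σ.apply_symm_apply x, h3, map_one]
  refine ⟨F, inferInstance, inferInstance, φ, hF, hne, hodd, ?_⟩
  let pi : P →* Multiplicative F := MonoidHom.mk' (fun x => Multiplicative.ofAdd (σ (π x)))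
    fun x y => by rw [hπadd, map_add, ofAdd_add]
  let io : Multiplicative F →* P := MonoidHom.mk' (fun v => el (c0 * v.toAdd)) fun v w =>
    hcoinj _ (hel _) _ (mul_mem (hel _) (hel _))
      (by rw [hcomul _ (hel _) _ (hel _), hcoel, hcoel, hcoel, toAdd_mul, mul_add])
  refine iso_typeA (φ : F →+* F) pi io ?_ ?_ ?_ ?_ ?_
  · intro a
    obtain ⟨x, hx⟩ := hπs (σ.symm a.toAdd)
    exact ⟨x, by show Multiplicative.ofAdd _ = a; rw [hx, σ.apply_symm_apply, ofAdd_toAdd]⟩
  · intro v w h
    have := congrArg co (show el (c0 * v.toAdd) = el (c0 * w.toAdd) from h)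
    rw [hcoel, hcoel] at this
    exact Multiplicative.toAdd.injective (mul_left_cancel₀ hc0ne this)
  · refine Subgroup.ext fun x => ?_
    constructor
    · intro hx
      have h0 : σ (π x) = 0 := Multiplicative.ofAdd.injective (MonoidHom.mem_ker.1 hx)
      have hxV := (hπ0 x).1 ((map_eq_zero_iff _ σ.injective).1 h0)
      refine ⟨Multiplicative.ofAdd (c0⁻¹ * co x), ?_⟩
      show el (c0 * (c0⁻¹ * co x)) = x
      rw [mul_inv_cancel_left₀ hc0ne, helco x hxV]
    · rintro ⟨v, rfl⟩
      show Multiplicative.ofAdd (σ (π (el (c0 * v.toAdd)))) = 1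
      rw [(hπ0 _).2 (hel _), map_zero]; rfl
  · rintro _ ⟨v, rfl⟩
    exact D.involution_central (hel _)
  · intro x
    show x * x = el (c0 * (σ (π x) * φ (σ (π x))))
    rw [← hQeq, ← hQ, helco _ (hsq x)]

end Datum

end Cfsg.Agent.Suzuki2
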